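import Cfsg.Agent.InvolCalc.CyclicNormalisers.Basic
import Cfsg.Agent.Known.AutPSLn.Named
import Cfsg.Agent.Known.FieldCoset

/-!
Automorphism groups of `PSL(2, q)` with the property of cyclic normalisers are inner-diagonal.
-/

set_option autoImplicit false
set_option linter.unusedSectionVars false

namespace Cfsg.Lib.CyclicNorm

open Matrix Cfsg.Lib.Known.AutPSLn

universe v

variable {F : Type v} [Field F] [Fintype F]

local notation "M2" => Matrix (Fin 2) (Fin 2) F
local notation "GL2" => GL (Fin 2) F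
local notation "P2" => Matrix.ProjectiveSpecialLinearGroup (Fin 2) F

/-- Upper unitriangular matrices. -/
noncomputable def uG (x : F) : GL2 := GeneralLinearGroup.mkOfDetNeZero !![1, x; 0, 1] (by simp [det_fin_two])

/-- The Weyl element. -/
noncomputable def wG : GL2 := GeneralLinearGroup.mkOfDetNeZero !![0, 1; -1, 0] (by simp [det_fin_two])

/-- Diagonal matrices. -/
noncomputable def dG (a b : Fˣ) : GL2 :=
  GeneralLinearGroup.mkOfDetNeZero !![(a : F), 0; 0, (b : F)] (by simp [det_fin_two])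

theorem coe_uG (x : F) : ((uG x : GL2) : M2) = !![1, x; 0, 1] := rfl

theorem coe_wG : ((wG : GL2) : M2) = !![0, 1; -1, 0] := rfl

theorem coe_dG (a b : Fˣ) : ((dG a b : GL2) : M2) = !![(a : F), 0; 0, (b : F)] := rfl

theorem uG_pow (x : F) (k : ℕ) : (uG x : GL2) ^ k = uG ((k : F) * x) := by
  induction k with
  | zero => exact Units.ext (by rw [pow_zero, coe_uG]; simp [one_fin_two])
  | succ k ih =>
    refine Units.ext ?_
    rw [pow_succ, ih, Units.val_mul, coe_uG, coe_uG, coe_uG]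
    ext i j; fin_cases i <;> fin_cases j <;> simp [Matrix.mul_apply, Fin.sum_univ_two]; ring

theorem dG_mul (a b c d : Fˣ) : (dG a b : GL2) * dG c d = dG (a * c) (b * d) := by
  refine Units.ext ?_
  rw [Units.val_mul, coe_dG, coe_dG, coe_dG]
  ext i j; fin_cases i <;> fin_cases j <;> simp [Matrix.mul_apply, Fin.sum_univ_two]

theorem dG_one : (dG 1 1 : GL2) = 1 := Units.ext (by rw [coe_dG]; simp [one_fin_two])

theorem dG_pow (a b : Fˣ) (k : ℕ) : (dG a b : GL2) ^ k = dG (a ^ k) (b ^ k) := by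
  induction k with
  | zero => simp [dG_one]
  | succ k ih => rw [pow_succ, ih, dG_mul, pow_succ, pow_succ]

theorem scal_mem (c : Fˣ) : (dG c c : GL2) ∈ Subgroup.center GL2 := by
  refine GeneralLinearGroup.mem_center_iff_val_mem_range_scalar.2 ⟨c, ?_⟩
  rw [coe_dG]
  ext i j; fin_cases i <;> fin_cases j <;> simp

theorem center_smul {z : GL2} (hz : z ∈ Subgroup.center GL2) : ∃ c : F, (z : M2) = c • 1 := by
  obtain ⟨c, hc⟩ := GeneralLinearGroup.mem_center_iff_val_mem_range_scalar.1 hz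
  exact ⟨c, by rw [← hc, scalar_apply, smul_one_eq_diagonal]⟩

theorem conjP_eq_iff {a b : GL2} (h : (conjP a : MulAut P2) = conjP b) :
    ∃ c : F, (a : M2) = c • (b : M2) := by
  obtain ⟨c, hc⟩ := center_smul (conjP_fieldP_eq_one le_rfl (A := a * b⁻¹) (σ := 1)
    (by rw [map_one, mul_one, map_mul, map_inv, h, mul_inv_cancel])).1
  refine ⟨c, ?_⟩
  have e : (a : M2) = ((a * b⁻¹ : GL2) : M2) * (b : M2) := by rw [← Units.val_mul, inv_mul_cancel_right]
  rw [e, hc, smul_mul_assoc, one_mul]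

theorem fieldP_eq_one {σ : F ≃+* F} (h : (fieldP σ : MulAut P2) = 1) : σ = 1 :=
  (conjP_fieldP_eq_one le_rfl (A := (1 : GL2)) (by rw [h, map_one, mul_one])).2

theorem fix_mul {σ : F ≃+* F} {g : GL2} (h : glMap σ g = g) :
    Commute (conjP g : MulAut P2) (fieldP σ) := by
  show (conjP g : MulAut P2) * fieldP σ = fieldP σ * conjP g
  rw [fieldP_mul_conjP, h]

theorem glMap_wG (σ : F ≃+* F) : glMap σ (wG : GL2) = wG := by
  refine Units.ext ?_
  rw [coe_glMap, coe_wG]
  ext i j; fin_cases i <;> fin_cases j <;> simp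

theorem glMap_uG (σ : F ≃+* F) {x : F} (hx : σ x = x) : glMap σ (uG x : GL2) = uG x := by
  refine Units.ext ?_
  rw [coe_glMap, coe_uG]
  ext i j; fin_cases i <;> fin_cases j <;> simp [hx]

theorem glMap_dG (σ : F ≃+* F) (a b : Fˣ) :
    glMap σ (dG a b : GL2) = dG (Units.map (σ : F →* F) a) (Units.map (σ : F →* F) b) := by
  refine Units.ext ?_
  rw [coe_glMap, coe_dG, coe_dG]
  ext i j; fin_cases i <;> fin_cases j <;> simp

theorem det_dG (a b : Fˣ) : ((dG a b : GL2) : M2).det = (a : F) * b := by simp [coe_dG, det_fin_two]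

theorem mem_of_det {A : Subgroup (MulAut P2)} (hInn : ∀ x : P2, MulAut.conj x ∈ A) {g : GL2}
    (h : (g : M2).det = 1) : (conjP g : MulAut P2) ∈ A := by
  have e : g = Matrix.SpecialLinearGroup.toGL (⟨(g : M2), h⟩ : Matrix.SpecialLinearGroup (Fin 2) F) :=
    Units.ext rfl
  rw [show (conjP g : MulAut P2) = _ from (congrArg (conjP : GL2 → MulAut P2) e).trans (conjP_toGL _)]
  exact hInn _

theorem conjP_sq_det {g : GL2} {c : Fˣ} (h : (g : M2).det = (c : F) * c) :
    ∃ M : Matrix.SpecialLinearGroup (Fin 2) F, (conjP g : MulAut P2) = MulAut.conj (π M) := by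
  refine ⟨⟨((dG c⁻¹ c⁻¹ * g : GL2) : M2), ?_⟩, ?_⟩
  · rw [Units.val_mul, det_mul, det_dG, h, Units.val_inv_eq_inv_val]
    field_simp
  · refine Eq.trans ?_ (conjP_toGL _)
    have e1 : (conjP g : MulAut P2) = conjP (dG c⁻¹ c⁻¹ * g) := by
      rw [map_mul, conjP_scalar (scal_mem _), one_mul]
    exact e1.trans (congrArg (fun z : GL2 => (conjP z : MulAut P2)) (Units.ext rfl))

theorem nonsq_mul {a b : Fˣ} (ha : ¬ IsSquare a) (hb : ¬ IsSquare b) : IsSquare (a * b) := by
  obtain ⟨g, hg⟩ := IsCyclic.exists_generator (α := Fˣ)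
  obtain ⟨i, rfl⟩ := hg a
  obtain ⟨j, rfl⟩ := hg b
  rcases Int.even_or_odd' i with ⟨k, rfl | rfl⟩
  · exact absurd ⟨g ^ k, by show g ^ (2 * k) = _; rw [two_mul, _root_.zpow_add]⟩ ha
  rcases Int.even_or_odd' j with ⟨l, rfl | rfl⟩
  · exact absurd ⟨g ^ l, by show g ^ (2 * l) = _; rw [two_mul, _root_.zpow_add]⟩ hb
  exact ⟨g ^ (k + l + 1), by show g ^ (2 * k + 1) * g ^ (2 * l + 1) = _; rw [← _root_.zpow_add, ← _root_.zpow_add]; congr 1; ring⟩

variable {A : Subgroup (MulAut (Matrix.ProjectiveSpecialLinearGroup (Fin 2) F))}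

theorem rule_mem (h : CycNorm A) {x t y g : MulAut P2} (hx : x ∈ A) (hg : g ∈ A)
    (ht : orderOf t = 2) (htx : t ∈ Subgroup.zpowers x) (hyx : y ∈ Subgroup.zpowers x) (hy : y ≠ 1) :
    g * y * g⁻¹ ∈ Subgroup.zpowers y ↔ Commute g t := by
  obtain ⟨i, rfl⟩ := htx
  obtain ⟨j, rfl⟩ := hyx
  have := h ⟨x, hx⟩ (⟨x, hx⟩ ^ i) (⟨x, hx⟩ ^ j) (by rw [← Subgroup.orderOf_coe]; simpa using ht)
    (Subgroup.zpow_mem_zpowers _ _) (Subgroup.zpow_mem_zpowers _ _)
    (fun e => hy (by simpa using congrArg Subtype.val e)) ⟨g, hg⟩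
  constructor
  · rintro ⟨k, hk⟩
    exact (this.1 ⟨k, Subtype.ext (by simpa using hk)⟩).map A.subtype
  · intro hc
    obtain ⟨k, hk⟩ := this.2 (Subtype.ext (by simpa using hc.eq))
    exact ⟨k, by simpa using congrArg Subtype.val hk⟩

theorem rule_odd (h : CycNorm A) {t y g : MulAut P2} (htA : t ∈ A) (hyA : y ∈ A) (hg : g ∈ A)
    (ht : orderOf t = 2) (hc : Commute y t) (ho : Odd (orderOf y)) (hy : y ≠ 1) :
    g * y * g⁻¹ ∈ Subgroup.zpowers y ↔ Commute g t := by
  obtain ⟨k, hk⟩ := ho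
  have e2 : t ^ 2 = 1 := orderOf_dvd_iff_pow_eq_one.1 (dvd_of_eq ht)
  refine rule_mem h (mul_mem hyA htA) hg ht ?_ ?_ hy
  · refine ⟨(orderOf y : ℕ), ?_⟩
    show (y * t) ^ (orderOf y : ℤ) = t
    rw [zpow_natCast, hc.mul_pow, pow_orderOf_eq_one, one_mul, hk, pow_succ, pow_mul, e2, one_pow, one_mul]
  · refine ⟨(orderOf y + 1 : ℕ), ?_⟩
    show (y * t) ^ ((orderOf y + 1 : ℕ) : ℤ) = y
    rw [zpow_natCast, hc.mul_pow, pow_succ, pow_orderOf_eq_one, one_mul, hk,
      show 2 * k + 1 + 1 = 2 * (k + 1) by ring, pow_mul, e2, one_pow, mul_one]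

theorem wG_order : orderOf (conjP (wG : GL2) : MulAut P2) = 2 := by
  refine orderOf_eq_prime ?_ ?_
  · rw [← map_pow]
    have e : (wG : GL2) ^ 2 = dG (-1) (-1) := Units.ext (by
      rw [pow_two, Units.val_mul, coe_wG, coe_dG]
      ext i j; fin_cases i <;> fin_cases j <;> simp [Matrix.mul_apply, Fin.sum_univ_two])
    rw [e]
    exact conjP_scalar (scal_mem _)
  · intro e
    rw [← map_one (conjP (F := F) (n := 2))] at e
    obtain ⟨c, hc⟩ := conjP_eq_iff e
    have := congrFun (congrFun hc 0) 1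
    simp [coe_wG] at this

/-- An involutory automorphism of a field of more than four elements fixes more than the prime field. -/
theorem exists_fixed [CharP F 2] (h4 : 4 < Fintype.card F) (σ : F ≃+* F) (hσσ : ∀ x, σ (σ x) = x) :
    ∃ a : F, σ a = a ∧ a ≠ 0 ∧ a ≠ 1 := by
  classical
  have h2 : (2 : F) = 0 := CharTwo.two_eq_zero
  by_contra hcon
  push Not at hcon
  have key : ∀ x : F, x = 0 ∨ x = 1 ∨ x ^ 2 + x + 1 = 0 := by
    intro x
    by_cases hx : x = 0
    · exact Or.inl hx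
    have hσx : σ x ≠ 0 := fun e => hx (by rw [← hσσ x, e, map_zero])
    have hm := hcon (x * σ x) (by rw [map_mul, hσσ, mul_comm]) (mul_ne_zero hx hσx)
    by_cases hs : x + σ x = 0
    · have : σ x = x := by rw [eq_neg_of_add_eq_zero_right hs, CharTwo.neg_eq]
      exact Or.inr (Or.inl (hcon x this hx))
    have hs' := hcon (x + σ x) (by rw [map_add, hσσ, add_comm]) hs
    refine Or.inr (Or.inr ?_)
    have e : σ x = 1 + x := by
      rw [← hs']
      rw [add_comm x, add_assoc, CharTwo.add_self_eq_zero, add_zero]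
    rw [e] at hm
    linear_combination hm + h2
  have hcard : Fintype.card F ≤ 4 := by
    by_cases hr : ∃ r : F, r ^ 2 + r + 1 = 0
    · obtain ⟨r, hr⟩ := hr
      have hsub : (Finset.univ : Finset F) ⊆ {0, 1, r, r + 1} := by
        intro x _
        simp only [Finset.mem_insert, Finset.mem_singleton]
        rcases key x with e | e | e
        · exact Or.inl e
        · exact Or.inr (Or.inl e)
        · rcases mul_eq_zero.1 (show (x - r) * (x - (r + 1)) = 0 by linear_combination e + hr - (x + x * r) * h2 - h2) with q | q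
          · exact Or.inr (Or.inr (Or.inl (sub_eq_zero.1 q)))
          · exact Or.inr (Or.inr (Or.inr (sub_eq_zero.1 q)))
      have := (Finset.card_le_card hsub).trans Finset.card_le_four
      rwa [Finset.card_univ] at this
    · have hsub : (Finset.univ : Finset F) ⊆ {0, 1} := by
        intro x _
        simp only [Finset.mem_insert, Finset.mem_singleton]
        rcases key x with e | e | e
        · exact Or.inl e
        · exact Or.inr e
        · exact absurd ⟨x, e⟩ hr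
      have := (Finset.card_le_card hsub).trans Finset.card_le_two
      rw [Finset.card_univ] at this
      omega
  omega


/-- No involutory field automorphism in characteristic two. -/
theorem no_field_two_even (h : CycNorm A) (h4 : 4 < Fintype.card F) (hInn : ∀ x : P2, MulAut.conj x ∈ A)
    (σ : F ≃+* F) (hσσ : ∀ x, σ (σ x) = x) [CharP F 2] (hτ : (fieldP σ : MulAut P2) ∈ A)
    (hτo : orderOf (fieldP σ : MulAut P2) = 2) : False := by
  classical
  have hu : ∀ x : F, (conjP (uG x : GL2) : MulAut P2) ∈ A := fun x => mem_of_det hInn (by simp [coe_uG, det_fin_two])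
  have huc : Commute (conjP (uG 1 : GL2) : MulAut P2) (fieldP σ) := fix_mul (glMap_uG σ (map_one σ))
  obtain ⟨a, hσa, ha0, ha1⟩ := exists_fixed h4 σ hσσ
  obtain ⟨a', rfl⟩ : ∃ a' : Fˣ, (a' : F) = a := ⟨Units.mk0 a ha0, rfl⟩
  have hd : (conjP (dG a' a'⁻¹ : GL2) : MulAut P2) ∈ A := mem_of_det hInn (by rw [det_dG]; simp)
  have hdc : Commute (conjP (dG a' a'⁻¹ : GL2) : MulAut P2) (fieldP σ) := fix_mul (by
    rw [glMap_dG, map_inv, show Units.map (σ : F →* F) a' = a' from Units.ext hσa])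
  have hodd : Odd (orderOf (conjP (dG a' a'⁻¹ : GL2) : MulAut P2)) := by
    refine Odd.of_dvd_nat ?_ (orderOf_dvd_of_pow_eq_one (n := Fintype.card Fˣ)
      (by rw [← map_pow, dG_pow, pow_card_eq_one, inv_pow, pow_card_eq_one, inv_one, dG_one, map_one]))
    rw [Fintype.card_units]
    have : Even (Fintype.card F) := Nat.even_iff.2 (FiniteField.even_card_of_char_two (ringChar.eq F 2))
    obtain ⟨m, hm⟩ := this
    exact ⟨m - 1, by omega⟩
  have hne : (conjP (dG a' a'⁻¹ : GL2) : MulAut P2) ≠ 1 := by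
    intro e
    rw [← map_one (conjP (F := F) (n := 2))] at e
    obtain ⟨c, hc⟩ := conjP_eq_iff e
    have e1 := congrFun (congrFun hc 0) 0
    have e2 := congrFun (congrFun hc 1) 1
    simp [coe_dG] at e1 e2
    rw [← e1] at e2
    refine ha1 (CharTwo.sq_injective ?_)
    have h3 : (a' : F) * a' = 1 := by
      nth_rewrite 2 [← e2]
      exact mul_inv_cancel₀ ha0
    simp [pow_two, h3]
  obtain ⟨k, hk⟩ := Subgroup.mem_zpowers_iff.1 ((rule_odd h hτ hd (hu 1) hτo hdc hodd hne).2 huc)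
  rw [← map_zpow, ← map_inv, ← map_mul, ← map_mul] at hk
  obtain ⟨c, hc⟩ := conjP_eq_iff hk.symm
  obtain ⟨a₁, b₁, hk'⟩ : ∃ a₁ b₁ : Fˣ, (dG a' a'⁻¹ : GL2) ^ k = dG a₁ b₁ := by
    obtain ⟨m, hm⟩ : ∃ m : ℕ, (dG a' a'⁻¹ : GL2) ^ k = dG a' a'⁻¹ ^ m := by
      obtain ⟨m, -, hm⟩ := Finset.mem_image.1 (mem_zpowers_iff_mem_range_orderOf.1
        (Subgroup.zpow_mem_zpowers (dG a' a'⁻¹ : GL2) k))
      exact ⟨m, hm.symm⟩
    exact ⟨_, _, hm.trans (dG_pow a' a'⁻¹ m)⟩
  have hc2 : ((uG 1 * dG a' a'⁻¹ : GL2) : M2) = c • ((dG a₁ b₁ * uG 1 : GL2) : M2) := by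
    have : ((uG 1 * dG a' a'⁻¹ : GL2) : M2) =
        ((uG 1 * dG a' a'⁻¹ * (uG 1)⁻¹ : GL2) : M2) * ((uG 1 : GL2) : M2) := by
      rw [← Units.val_mul, inv_mul_cancel_right]
    rw [this, hc, hk', smul_mul_assoc, ← Units.val_mul]
  have e1 := congrFun (congrFun hc2 0) 0
  have e2 := congrFun (congrFun hc2 0) 1
  simp [coe_dG, coe_uG, Matrix.mul_apply, Fin.sum_univ_two] at e1 e2
  rw [← e2] at e1
  refine ha1 (CharTwo.sq_injective ?_)
  have h3 : (a' : F) * a' = 1 := by
    nth_rewrite 2 [e1]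
    exact mul_inv_cancel₀ ha0
  simp [pow_two, h3]

/-- No involutory field automorphism in odd characteristic. -/
theorem no_field_two_odd (h : CycNorm A) (hInn : ∀ x : P2, MulAut.conj x ∈ A) (σ : F ≃+* F)
    (h2 : (2 : F) ≠ 0) (hτ : (fieldP σ : MulAut P2) ∈ A) (hτo : orderOf (fieldP σ : MulAut P2) = 2) : False := by
  classical
  have hw : (conjP (wG : GL2) : MulAut P2) ∈ A := mem_of_det hInn (by simp [coe_wG, det_fin_two])
  have hu : ∀ x : F, (conjP (uG x : GL2) : MulAut P2) ∈ A := fun x => mem_of_det hInn (by simp [coe_uG, det_fin_two])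
  have hwc : Commute (conjP (wG : GL2) : MulAut P2) (fieldP σ) := fix_mul (glMap_wG σ)
  have huc : Commute (conjP (uG 1 : GL2) : MulAut P2) (fieldP σ) := fix_mul (glMap_uG σ (map_one σ))
  obtain ⟨p, hp⟩ := CharP.exists F
  have hpp : p.Prime := (CharP.char_is_prime_or_zero F p).resolve_right
    (fun e => CharP.ringChar_ne_zero_of_finite F ((ringChar.eq F p).trans e))
  haveI := Fact.mk hpp
  have hup : orderOf (conjP (uG 1 : GL2) : MulAut P2) = p := by
    refine orderOf_eq_prime ?_ ?_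
    · rw [← map_pow, uG_pow, CharP.cast_eq_zero, zero_mul,
        show (uG 0 : GL2) = 1 from Units.ext (by rw [coe_uG]; simp [one_fin_two]), map_one]
    · intro e
      rw [← map_one (conjP (F := F) (n := 2))] at e
      obtain ⟨c, hc⟩ := conjP_eq_iff e
      have e1 := congrFun (congrFun hc 0) 1
      simp [coe_uG] at e1
  have hp2 : p ≠ 2 := fun e => h2 (by subst e; exact_mod_cast CharP.cast_eq_zero F 2)
  obtain ⟨k, hk⟩ := Subgroup.mem_zpowers_iff.1 ((rule_odd h hτ (hu 1) hw hτo huc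
    (by rw [hup]; exact hpp.odd_of_ne_two hp2) (fun e => hpp.ne_one (hup.symm.trans (orderOf_eq_one_iff.2 e)))).2 hwc)
  rw [← map_zpow, ← map_inv, ← map_mul, ← map_mul] at hk
  obtain ⟨c, hc⟩ := conjP_eq_iff hk.symm
  obtain ⟨x, hx⟩ : ∃ x : F, (uG 1 : GL2) ^ k = uG x := by
    obtain ⟨m, -, hm⟩ := Finset.mem_image.1 (mem_zpowers_iff_mem_range_orderOf.1
      (Subgroup.zpow_mem_zpowers (uG 1 : GL2) k))
    exact ⟨_, hm.symm.trans (uG_pow 1 m)⟩
  have hc2 : ((wG * uG 1 : GL2) : M2) = c • ((uG x * wG : GL2) : M2) := by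
    have : ((wG * uG 1 : GL2) : M2) = ((wG * uG 1 * wG⁻¹ : GL2) : M2) * ((wG : GL2) : M2) := by
      rw [← Units.val_mul, inv_mul_cancel_right]
    rw [this, hc, hx, smul_mul_assoc, ← Units.val_mul]
  have e1 := congrFun (congrFun hc2 1) 1
  simp [coe_wG, coe_uG, Matrix.mul_apply, Fin.sum_univ_two] at e1

/-- No field automorphism. -/
theorem no_field (h : CycNorm A) (h4 : 4 < Fintype.card F) (hInn : ∀ x : P2, MulAut.conj x ∈ A) (σ₀ : F ≃+* F)
    (hσ₀ : σ₀ ≠ 1) (hmem₀ : (fieldP σ₀ : MulAut P2) ∈ A) : False := by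
  classical
  haveI : Finite (F ≃+* F) := Finite.of_injective (fun e => (e : F → F)) (fun e f he => RingEquiv.ext (congrFun he))
  obtain ⟨r, hr, hrd⟩ := Nat.exists_prime_and_dvd (fun e => hσ₀ (orderOf_eq_one_iff.1 e))
  obtain ⟨σ, hσdef⟩ : ∃ σ, σ = σ₀ ^ (orderOf σ₀ / r) := ⟨_, rfl⟩
  have hσr : orderOf σ = r := by
    rw [hσdef, orderOf_pow_of_dvd (Nat.div_pos (Nat.le_of_dvd (orderOf_pos σ₀) hrd) hr.pos).ne'
      (Nat.div_dvd_of_dvd hrd), Nat.div_div_self hrd (orderOf_pos σ₀).ne']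
  have hτ : (fieldP σ : MulAut P2) ∈ A := by rw [hσdef, map_pow]; exact pow_mem hmem₀ _
  haveI := Fact.mk hr
  have hτo : orderOf (fieldP σ : MulAut P2) = r := orderOf_eq_prime
    (by rw [← map_pow, ← hσr, pow_orderOf_eq_one, map_one])
    (fun e => hr.ne_one (hσr.symm.trans (orderOf_eq_one_iff.2 (fieldP_eq_one e))))
  have hw : (conjP (wG : GL2) : MulAut P2) ∈ A := mem_of_det hInn (by simp [coe_wG, det_fin_two])
  have hu : ∀ x : F, (conjP (uG x : GL2) : MulAut P2) ∈ A := fun x => mem_of_det hInn (by simp [coe_uG, det_fin_two])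
  have hwc : Commute (conjP (wG : GL2) : MulAut P2) (fieldP σ) := fix_mul (glMap_wG σ)
  have huc : Commute (conjP (uG 1 : GL2) : MulAut P2) (fieldP σ) := fix_mul (glMap_uG σ (map_one σ))
  rcases hr.eq_two_or_odd' with rfl | hrodd
  swap
  · have := (rule_odd h hw hτ (hu 1) wG_order hwc.symm (by rw [hτo]; exact hrodd)
      (fun e => hr.ne_one (hτo.symm.trans (orderOf_eq_one_iff.2 e)))).1
      (by rw [huc.eq, mul_inv_cancel_right]; exact Subgroup.mem_zpowers _)
    have e := this.eq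
    rw [← map_mul, ← map_mul] at e
    obtain ⟨c, hc⟩ := conjP_eq_iff e
    have e1 := congrFun (congrFun hc 1) 1
    have e2 := congrFun (congrFun hc 0) 1
    simp [coe_wG, coe_uG, Matrix.mul_apply, Fin.sum_univ_two] at e1 e2
    simp_all
  by_cases h2 : (2 : F) = 0
  · haveI : CharP F 2 := CharTwo.of_one_ne_zero_of_two_eq_zero one_ne_zero h2
    have h22 : σ * σ = 1 := by rw [← pow_two, ← hσr, pow_orderOf_eq_one]
    exact no_field_two_even h h4 hInn σ (fun x => DFunLike.congr_fun h22 x) hτ hτo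
  · exact no_field_two_odd h hInn σ h2 hτ hτo

/-- No product of a diagonal and a field automorphism. -/
theorem no_twist (h : CycNorm A) (h4 : 4 < Fintype.card F) (hInn : ∀ x : P2, MulAut.conj x ∈ A) (σ : F ≃+* F)
    (hσ : σ ≠ 1) {ν₀ : Fˣ} (hν₀ : ¬ IsSquare ν₀) (hmem : (conjP (dG ν₀ 1 : GL2) * fieldP σ : MulAut P2) ∈ A) :
    False := by
  classical
  have hsq : ∀ a : Fˣ, IsSquare a → (conjP (dG a 1 : GL2) : MulAut P2) ∈ A := by
    rintro a ⟨c, rfl⟩
    obtain ⟨M, hM⟩ := conjP_sq_det (g := (dG (c * c) 1 : GL2)) (c := c) (by simp [det_dG])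
    rw [hM]; exact hInn _
  have hσns : ∀ a : Fˣ, ¬ IsSquare a → ¬ IsSquare (Units.map (σ : F →* F) a) := by
    rintro a ha ⟨c, hc⟩
    refine ha ⟨Units.map (σ.symm : F →* F) c, Units.ext ?_⟩
    simpa using congrArg (fun u : Fˣ => σ.symm (u : F)) hc
  by_cases hσ2 : σ * σ = 1
  swap
  · refine no_field h h4 hInn _ hσ2 ?_
    have hc := mul_mem hmem hmem
    have e : (conjP (dG ν₀ 1 : GL2) * fieldP σ * (conjP (dG ν₀ 1) * fieldP σ) : MulAut P2) =
        conjP (dG (ν₀ * Units.map (σ : F →* F) ν₀) 1) * fieldP (σ * σ) := by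
      rw [mul_assoc, ← mul_assoc (fieldP σ) (conjP _), fieldP_mul_conjP, glMap_dG, map_one, mul_assoc,
        ← map_mul fieldP, ← mul_assoc, ← map_mul, dG_mul, mul_one]
    rw [e] at hc
    exact (mul_mem_cancel_left (hsq _ (nonsq_mul hν₀ (hσns ν₀ hν₀)))).1 hc
  obtain ⟨ν, hgen⟩ := IsCyclic.exists_generator (α := Fˣ)
  have hν : ¬ IsSquare ν := fun hs => by
    obtain ⟨i, rfl⟩ := hgen ν₀
    exact hν₀ (hs.zpow i)
  have hx : (conjP (dG ν 1 : GL2) * fieldP σ : MulAut P2) ∈ A := by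
    have e : (dG ν 1 : GL2) = dG (ν * ν₀⁻¹) 1 * dG ν₀ 1 := by rw [dG_mul, inv_mul_cancel_right, one_mul]
    rw [e, map_mul, mul_assoc]
    exact mul_mem (hsq _ (nonsq_mul hν (fun hh => hν₀ (by simpa using hh.inv)))) hmem
  obtain ⟨m, hm⟩ : ∃ m, m = ν * Units.map (σ : F →* F) ν := ⟨_, rfl⟩
  have hσσ : ∀ x, σ (σ x) = x := fun x => DFunLike.congr_fun hσ2 x
  have hσm : Units.map (σ : F →* F) m = m := by
    rw [hm, map_mul, mul_comm]
    refine congrArg (· * _) (Units.ext ?_)
    exact hσσ _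
  have hchar2 : (2 : F) ≠ 0 := fun h2 => hν (by
    haveI : CharP F 2 := CharTwo.of_one_ne_zero_of_two_eq_zero one_ne_zero h2
    obtain ⟨c, hc⟩ := FiniteField.isSquare_of_char_two (ringChar.eq F 2) (ν : F)
    exact ⟨Units.mk0 c (fun e => ν.ne_zero (by rw [hc, e, mul_zero])), Units.ext hc⟩)
  have hall : ∀ u : Fˣ, ∃ i : ℤ, ν ^ i = u := fun u => hgen u
  have hν2 : σ ((ν : F) * ν) ≠ (ν : F) * ν := by
    intro e
    rw [map_mul, mul_self_eq_mul_self_iff] at e
    rcases e with e | e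
    · exact hσ (RingEquiv.ext fun x => by
        rcases eq_or_ne x 0 with rfl | hx0
        · simp
        obtain ⟨i, hi⟩ := hall (Units.mk0 x hx0)
        have : Units.map (σ : F →* F) (ν ^ i) = ν ^ i := by
          rw [map_zpow, show Units.map (σ : F →* F) ν = ν from Units.ext e]
        rw [hi] at this
        simpa using congrArg Units.val this)
    · have hone : (1 : F) + ν ≠ 0 := fun q => by
        have e1 : (ν : F) = -1 := eq_neg_of_add_eq_zero_right q
        rw [e1, map_neg, map_one, neg_neg] at e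
        exact hchar2 (by linear_combination -e)
      obtain ⟨i, hi⟩ := hall (Units.mk0 _ hone)
      have hσν : Units.map (σ : F →* F) ν = -ν := Units.ext (by simpa using e)
      have h1 : Units.map (σ : F →* F) (ν ^ i) = (-ν) ^ i := by rw [map_zpow, hσν]
      rw [hi] at h1
      have h2 : (1 : F) + -(ν : F) = ((-ν) ^ i : Fˣ) := by
        rw [← h1]; simp [e]
      rcases Int.even_or_odd i with he | ho
      · rw [he.neg_zpow, hi] at h2
        exact hchar2 ((mul_eq_zero.1 (show (2 : F) * ν = 0 by simp at h2; linear_combination -h2)).resolve_right ν.ne_zero)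
      · rw [ho.neg_zpow, hi] at h2
        exact hchar2 (by simp at h2; linear_combination h2)
  have hm1 : m ≠ 1 := by
    intro e
    rw [hm] at e
    have hinvu : ∀ u : Fˣ, (u : F) * σ u = 1 := fun u => by
      obtain ⟨i, rfl⟩ := hall u
      have := congrArg (fun v : Fˣ => ((v ^ i : Fˣ) : F)) e
      simpa [mul_zpow] using this
    have h22 := hinvu (Units.mk0 2 hchar2)
    simp only [Units.val_mk0, map_ofNat] at h22
    have h3 : (3 : F) = 0 := by linear_combination h22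
    have hone : (1 : F) + ν ≠ 0 := fun q => by
      have e1 : (ν : F) = -1 := eq_neg_of_add_eq_zero_right q
      exact hν2 (by rw [map_mul, e1, map_neg, map_one])
    have h5 := hinvu (Units.mk0 _ hone)
    simp only [Units.val_mk0, map_add, map_one] at h5
    have h6 := hinvu ν
    have h7 : ((ν : F) - 1) ^ 2 = 0 := by linear_combination (ν : F) * h5 - (1 + (ν : F)) * h6 - (ν : F) * h3
    exact hν ⟨1, Units.ext (by rw [Units.val_mul, Units.val_one, one_mul]; exact sub_eq_zero.1 ((sq_eq_zero_iff).1 h7))⟩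
  obtain ⟨x, hxdef⟩ : ∃ x, x = (conjP (dG ν 1 : GL2) * fieldP σ : MulAut P2) := ⟨_, rfl⟩
  rw [← hxdef] at hx
  have hx2 : x * x = conjP (dG m 1 : GL2) := by
    rw [hxdef, mul_assoc, ← mul_assoc (fieldP σ) (conjP _), fieldP_mul_conjP, glMap_dG, map_one, mul_assoc,
      ← map_mul fieldP, hσ2, map_one, mul_one, ← map_mul, dG_mul, mul_one, hm]
  have hpow : ∀ k : ℕ, x ^ (2 * k) = conjP (dG (m ^ k) 1 : GL2) ∧
      x ^ (2 * k + 1) = conjP (dG (m ^ k * ν) 1 : GL2) * fieldP σ := by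
    intro k
    have h1 : x ^ (2 * k) = conjP (dG (m ^ k) 1 : GL2) := by
      rw [pow_mul, pow_two, hx2, ← map_pow, dG_pow, one_pow]
    refine ⟨h1, ?_⟩
    rw [pow_succ, h1, hxdef, ← mul_assoc, ← map_mul, dG_mul, mul_one]
  have heven : Even (orderOf x) := by
    by_contra hodd
    obtain ⟨k, hk⟩ := Nat.not_even_iff_odd.1 hodd
    have := (hpow k).2
    rw [← hk, pow_orderOf_eq_one] at this
    exact hσ (conjP_fieldP_eq_one le_rfl this.symm).2
  have hyne : x * x ≠ 1 := by
    rw [hx2, ← map_one (conjP (F := F) (n := 2))]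
    intro e
    obtain ⟨c, hc⟩ := conjP_eq_iff e
    have e1 := congrFun (congrFun hc 0) 0
    have e2 := congrFun (congrFun hc 1) 1
    simp [coe_dG] at e1 e2
    exact hm1 (Units.ext (by rw [e1, ← e2]; simp))
  have hwA : (conjP (wG : GL2) : MulAut P2) ∈ A := mem_of_det hInn (by simp [coe_wG, det_fin_two])
  have hxne : x ≠ 1 := fun e => hyne (by rw [e, mul_one])
  obtain ⟨t, ht, htx⟩ : ∃ t, orderOf t = 2 ∧ t ∈ Subgroup.zpowers x :=
    ⟨root x, root_order heven, root_mem x⟩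
  have hwy : (conjP (wG : GL2) : MulAut P2) * (x * x) * (conjP (wG : GL2))⁻¹ ∈ Subgroup.zpowers (x * x) := by
    have e : (conjP (wG : GL2) : MulAut P2) * (x * x) * (conjP (wG : GL2))⁻¹ = (x * x)⁻¹ := by
      rw [hx2, ← map_inv, ← map_mul, ← map_mul, ← map_inv]
      have e1 : (wG : GL2) * dG m 1 * wG⁻¹ = dG m m * (dG m 1)⁻¹ := by
        rw [mul_inv_eq_iff_eq_mul,
          show (dG m 1 : GL2)⁻¹ = dG m⁻¹ 1 from inv_eq_of_mul_eq_one_right (by rw [dG_mul, mul_inv_cancel, one_mul, dG_one]),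
          dG_mul, mul_inv_cancel, mul_one]
        refine Units.ext ?_
        rw [Units.val_mul, Units.val_mul, coe_wG, coe_dG, coe_dG]
        ext i j; fin_cases i <;> fin_cases j <;> simp [Matrix.mul_apply, Fin.sum_univ_two]
      rw [e1, map_mul, conjP_scalar (scal_mem m), one_mul]
    rw [e]
    exact inv_mem (Subgroup.mem_zpowers _)
  have hwt := (rule_mem h hx hwA ht htx (mul_mem (Subgroup.mem_zpowers x) (Subgroup.mem_zpowers x)) hyne).1 hwy
  obtain ⟨j, hj⟩ : ∃ j : ℕ, x ^ j = conjP (wG : GL2) * x * (conjP (wG : GL2))⁻¹ := by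
    have := (rule_mem h hx hwA ht htx (Subgroup.mem_zpowers x) hxne).2 hwt
    rw [mem_zpowers_iff_mem_range_orderOf, Finset.mem_image] at this
    obtain ⟨j, -, hj⟩ := this
    exact ⟨j, hj⟩
  have hwx : (conjP (wG : GL2) : MulAut P2) * x * (conjP (wG : GL2))⁻¹ = conjP (dG 1 ν : GL2) * fieldP σ := by
    rw [mul_inv_eq_iff_eq_mul, hxdef, mul_assoc (conjP (dG 1 ν)), fieldP_mul_conjP, glMap_wG, ← mul_assoc,
      ← mul_assoc, ← map_mul, ← map_mul]
    congr 2
    refine Units.ext ?_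
    rw [Units.val_mul, Units.val_mul, coe_wG, coe_dG, coe_dG]
    ext i j; fin_cases i <;> fin_cases j <;> simp [Matrix.mul_apply, Fin.sum_univ_two]
  rw [hwx] at hj
  rcases Nat.even_or_odd' j with ⟨k, rfl | rfl⟩
  · rw [(hpow k).1, ← inv_mul_eq_one, ← mul_assoc, ← map_inv, ← map_mul] at hj
    exact hσ (conjP_fieldP_eq_one le_rfl hj).2
  · rw [(hpow k).2] at hj
    obtain ⟨c, hc⟩ := conjP_eq_iff (mul_right_cancel hj)
    have e1 := congrFun (congrFun hc 0) 0
    have e2 := congrFun (congrFun hc 1) 1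
    simp [coe_dG] at e1 e2
    have hσm' : σ (m : F) = (m : F) := congrArg Units.val hσm
    have e3 : ((m : F) ^ k) * ((ν : F) * ν) = 1 := by
      rw [← mul_assoc, e1]; exact e2.symm
    have e4 := congrArg σ e3
    rw [map_mul, map_pow, hσm', map_one] at e4
    exact hν2 (mul_left_cancel₀ (pow_ne_zero k m.ne_zero) (e4.trans e3.symm))

/-- Such a group is `PSL(2, q)` or `PGL(2, q)`. -/
theorem psl_or_pgl (h : CycNorm A) (h4 : 4 < Fintype.card F) (hInn : ∀ x : P2, MulAut.conj x ∈ A) :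
    A = (MulAut.conj : P2 →* MulAut P2).range ∨ A = (conjP : GL2 →* MulAut P2).range := by
  classical
  have hdiag : ∀ β ∈ A, ∃ g : GL2, conjP g = β := by
    intro β hβ
    obtain ⟨g, σ, γ, hγ, rfl⟩ := exists_decomp_all (F := F) (n := 2) le_rfl β
    have hγ' : ∃ w : GL2, γ = conjP w := by
      rcases hγ with rfl | rfl
      · exact ⟨1, (map_one _).symm⟩
      · refine ⟨wG, MulEquiv.ext fun x => QuotientGroup.induction_on x fun M => ?_⟩
        refine congrArg π (Subtype.ext ?_)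
        show ((M⁻¹ : Matrix.SpecialLinearGroup (Fin 2) F) : M2)ᵀ =
          ((wG : GL2) : M2) * (M : M2) * (((wG : GL2)⁻¹ : GL2) : M2)
        refine (wG : GL2).isUnit.mul_right_cancel ?_
        rw [mul_assoc _ _ ((wG : GL2) : M2), Units.inv_mul, mul_one, Matrix.SpecialLinearGroup.coe_inv,
          adjugate_fin_two, coe_wG]
        ext i j
        fin_cases i <;> fin_cases j <;> simp [Matrix.mul_apply, Fin.sum_univ_two]
    obtain ⟨w, rfl⟩ := hγ'
    rw [mul_assoc, fieldP_mul_conjP, ← mul_assoc, ← map_mul] at hβ ⊢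
    obtain ⟨g', hg'⟩ : ∃ g', g' = g * glMap σ w := ⟨_, rfl⟩
    rw [← hg'] at hβ ⊢
    by_cases hσ : σ = 1
    · exact ⟨g', by rw [hσ, map_one, mul_one]⟩
    exfalso
    by_cases hs : IsSquare (GeneralLinearGroup.det g')
    · obtain ⟨c, hc⟩ := hs
      obtain ⟨M, hM⟩ := conjP_sq_det (g := g') (c := c) (by simpa using congrArg Units.val hc)
      rw [hM] at hβ
      exact no_field h h4 hInn σ hσ ((mul_mem_cancel_left (hInn _)).1 hβ)
    · obtain ⟨ν, hν⟩ : ∃ ν, ν = GeneralLinearGroup.det g' := ⟨_, rfl⟩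
      rw [← hν] at hs
      refine no_twist h h4 hInn σ hσ hs ?_
      have e : (dG ν 1 : GL2) = dG ν 1 * g'⁻¹ * g' := by rw [inv_mul_cancel_right]
      rw [e, map_mul, mul_assoc]
      refine mul_mem (mem_of_det hInn ?_) hβ
      have h1 : GeneralLinearGroup.det (dG ν 1 * g'⁻¹) = 1 := by
        rw [map_mul, map_inv, ← hν, show GeneralLinearGroup.det (dG ν 1 : GL2) = ν from
          Units.ext (by simp [det_dG]), mul_inv_cancel]
      simpa using congrArg Units.val h1
  by_cases hout : ∃ g : GL2, conjP g ∈ A ∧ ¬ IsSquare (GeneralLinearGroup.det g)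
  · right
    obtain ⟨g, hg, hns⟩ := hout
    refine le_antisymm (fun β hβ => hdiag β hβ) ?_
    rintro _ ⟨a, rfl⟩
    have hsq : ∀ b : GL2, IsSquare (GeneralLinearGroup.det b) → (conjP b : MulAut P2) ∈ A := by
      rintro b ⟨c, hc⟩
      obtain ⟨M, hM⟩ := conjP_sq_det (g := b) (c := c) (by simpa using congrArg Units.val hc)
      rw [hM]; exact hInn _
    by_cases hs : IsSquare (GeneralLinearGroup.det a)
    · exact hsq a hs
    · rw [show a = a * g * g⁻¹ by group, map_mul, map_inv]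
      exact mul_mem (hsq _ (by rw [map_mul]; exact nonsq_mul hs hns)) (inv_mem hg)
  · left
    push Not at hout
    refine le_antisymm (fun β hβ => ?_) (by rintro _ ⟨x, rfl⟩; exact hInn x)
    obtain ⟨g, rfl⟩ := hdiag β hβ
    obtain ⟨c, hc⟩ := hout g hβ
    obtain ⟨M, hM⟩ := conjP_sq_det (g := g) (c := c) (by simpa using congrArg Units.val hc)
    exact ⟨π M, hM.symm⟩

/-- Inner automorphisms are faithful. -/
theorem conj_injective : Function.Injective (MulAut.conj : P2 →* MulAut P2) := by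
  rw [injective_iff_map_eq_one]
  intro x hx
  obtain ⟨M, rfl⟩ := QuotientGroup.mk_surjective x
  change MulAut.conj (π M) = 1 at hx
  rw [← conjP_toGL] at hx
  exact (QuotientGroup.eq_one_iff _).2 ((SpecialLinearGroup.toGL_mem_center_iff _).1
    (conjP_fieldP_eq_one le_rfl (σ := 1) (by rw [hx, map_one, one_mul])).1)

theorem range_conjP_equiv : Nonempty ((conjP : GL2 →* MulAut P2).range ≃* Matrix.ProjGenLinGroup (Fin 2) F) := by
  have hk : (conjP : GL2 →* MulAut P2).ker = Subgroup.center GL2 := by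
    ext g
    exact ⟨fun e => (conjP_fieldP_eq_one le_rfl (σ := 1)
      (by rw [MonoidHom.mem_ker.1 e, map_one, one_mul])).1, fun e => MonoidHom.mem_ker.2 (conjP_scalar e)⟩
  exact ⟨((QuotientGroup.quotientKerEquivRange _).symm).trans (QuotientGroup.quotientMulEquivOfEq hk)⟩

end Cfsg.Lib.CyclicNorm
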