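import Cfsg.Agent.InvolCalc.CyclicNormalisers.Common
import Cfsg.Agent.S2202
import Cfsg.Agent.S0204
import Cfsg.Agent.Classical.Misc.SmallPSL

/-!
The case of an abelian Sylow 2-subgroup.
-/

set_option autoImplicit false
set_option linter.unusedSectionVars false

namespace Cfsg.Lib.CyclicNorm

open Subgroup

universe u

variable {G : Type u} [Group G] [Finite G] (h : CycNorm G)
include h

/-- An involution with nonabelian centraliser. -/
theorem psl_of_nonabelian [IsSimpleGroup G] (hna : ¬ IsMulCommutative G) (S : Sylow 2 G)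
    (hab : ∀ a ∈ (S : Subgroup G), ∀ b ∈ (S : Subgroup G), Commute a b) {t : G} (ht : orderOf t = 2)
    (htS : t ∈ (S : Subgroup G)) {y₀ z : G} (hy₀ : y₀ ∈ oddCent h ht) (hz : z ∈ (S : Subgroup G))
    (hzy : ¬ Commute z y₀) : IsPSLTwo G := by
  classical
  haveI := Fact.mk Nat.prime_two
  have hS : ∀ s ∈ (S : Subgroup G), Commute s t := fun s hs => hab s hs t htS
  have hy1 : y₀ ≠ 1 := fun e => hzy (e ▸ Commute.one_right z)
  have hyy : y₀⁻¹ ≠ y₀ := ne_inv_of_sq fun e => hy1 (orderOf_eq_one_iff.1 (Nat.eq_one_of_dvd_coprimes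
    ((Nat.coprime_two_left).2 hy₀.2) (orderOf_dvd_of_pow_eq_one (by rw [pow_two, e])) dvd_rfl))
  -- involutions of `S` centralise or invert
  have hdich : ∀ v ∈ (S : Subgroup G), orderOf v = 2 → ¬ Commute v y₀ → ∀ y ∈ oddCent h ht, v * y * v⁻¹ = y⁻¹ :=
    fun v hv hv2 hc => (centralises_or_inverts h ht hv2 (hS v hv)).resolve_left fun e => hc (e y₀ hy₀)
  have hcent : ∀ v ∈ (S : Subgroup G), orderOf v = 2 → Commute v y₀ → ∀ g, Commute g t ↔ Commute g v :=
    fun v hv hv2 hc g => same_cent h ht hv2 hy₀.1 hc.symm hy₀.2 hy1 g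
  obtain ⟨n, hn⟩ := two_pow_eq_one S.isPGroup' hz
  have hz1 : z ≠ 1 := fun e => hzy (e ▸ Commute.one_left y₀)
  obtain ⟨u, hudef⟩ : ∃ u, u = root z := ⟨_, rfl⟩
  have hu : orderOf u = 2 := hudef ▸ root_order (even_of_two_elt hn hz1)
  have huS : u ∈ (S : Subgroup G) := hudef ▸ (zpowers_le.2 hz) (root_mem z)
  have huy : ¬ Commute u y₀ := fun e => hzy (commute_of_root h ht hn hy₀ (hudef ▸ e))
  have huinv := hdich u huS hu huy
  -- conjugation by the normaliser
  have hNS : ∀ m ∈ normalizer ((S : Subgroup G) : Set G), ∀ x ∈ (S : Subgroup G), m * x * m⁻¹ ∈ (S : Subgroup G) :=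
    fun m hm x hx => (mem_normalizer_iff.1 hm x).1 hx
  have hone : ∀ e ∈ (S : Subgroup G), orderOf e = 2 → Commute e y₀ → e = t := by
    intro e heS he hey
    by_contra het
    have hte : t * e ≠ 1 := fun q => het (by rw [eq_inv_of_mul_eq_one_right q, inv_of_two ht])
    have hte2 : orderOf (t * e) = 2 := orderOf_eq_prime (by
      rw [pow_two, (hS e heS).mul_mul_mul_comm, sq_of_two ht, sq_of_two he, mul_one]) hte
    have hteS := mul_mem htS heS
    have htey : Commute (t * e) y₀ := hy₀.1.symm.mul_left hey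
    -- inverting involutions have centralisers with trivial odd part
    have htriv : ∀ v ∈ (S : Subgroup G), ∀ hv : orderOf v = 2, ¬ Commute v y₀ → ∀ y ∈ oddCent h hv, y = 1 := by
      intro v hvS hv hvy y hy
      by_contra hne
      have hnt : ¬ Commute y t := fun hc => by
        have e1 := hdich v hvS hv hvy y ⟨hc, hy.2⟩
        rw [(hy.1.symm : Commute v y).eq, mul_inv_cancel_right] at e1
        exact hne (orderOf_eq_one_iff.1 (Nat.eq_one_of_dvd_coprimes ((Nat.coprime_two_left).2 hy.2)
          (orderOf_dvd_of_pow_eq_one (by rw [pow_two]; nth_rewrite 1 [e1]; exact inv_mul_cancel y)) dvd_rfl))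
      have h1 : t * y * t⁻¹ = y⁻¹ :=
        (centralises_or_inverts h hv ht (hab t htS v hvS)).resolve_left (fun q => hnt (q y hy).symm) y hy
      have h2 : e * y * e⁻¹ = y⁻¹ :=
        (centralises_or_inverts h hv he (hab e heS v hvS)).resolve_left
          (fun q => hnt ((hcent e heS he hey y).2 (q y hy).symm)) y hy
      refine hnt ((hcent _ hteS hte2 htey y).2 ?_)
      have e3 : (t * e) * y * (t * e)⁻¹ = y := by
        rw [show t * e * y * (t * e)⁻¹ = t * (e * y * e⁻¹) * t⁻¹ by group, h2, ← conj_inv, h1, inv_inv]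
      exact (mul_inv_eq_iff_eq_mul.1 e3).symm
    have hstab : ∀ m ∈ normalizer ((S : Subgroup G) : Set G), ∀ a ∈ (S : Subgroup G), orderOf a = 2 →
        Commute a y₀ → Commute (m * a * m⁻¹) y₀ := by
      intro m hm a haS ha hay
      by_contra hc
      have hb : orderOf (m * a * m⁻¹) = 2 := by rw [orderOf_conj]; exact ha
      have := htriv _ (hNS m hm a haS) hb hc (m * y₀ * m⁻¹)
        ⟨(show Commute y₀ a from hay.symm).map (MulAut.conj m).toMonoidHom, by rw [orderOf_conj]; exact hy₀.2⟩
      exact hy1 (conj_eq_one_iff.1 this)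
    -- the product over the cosets of `S` in its normaliser
    letI : CommGroup ↥(S : Subgroup G) :=
      { (inferInstance : Group ↥(S : Subgroup G)) with mul_comm := fun a b => Subtype.ext (hab a a.2 b b.2) }
    obtain ⟨N, hN⟩ : ∃ N, N = normalizer ((S : Subgroup G) : Set G) := ⟨_, rfl⟩
    haveI := Fintype.ofFinite (N ⧸ (S : Subgroup G).subgroupOf N)
    have hmemN : ∀ m : N, (m : G) ∈ normalizer ((S : Subgroup G) : Set G) := fun m => hN ▸ m.2
    let F : N ⧸ (S : Subgroup G).subgroupOf N → ↥(S : Subgroup G) := fun x =>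
      ⟨(x.out : G) * u * (x.out : G)⁻¹, hNS _ (hmemN _) u huS⟩
    have hF : ∀ m : N, (F (QuotientGroup.mk m) : G) = (m : G) * u * (m : G)⁻¹ := by
      intro m
      obtain ⟨⟨s, hs⟩, es⟩ := QuotientGroup.mk_out_eq_mul ((S : Subgroup G).subgroupOf N) m
      show ((QuotientGroup.mk m : N ⧸ (S : Subgroup G).subgroupOf N).out : G) * u *
        ((QuotientGroup.mk m : N ⧸ (S : Subgroup G).subgroupOf N).out : G)⁻¹ = _
      rw [es]
      push_cast
      have hsu : Commute (s : G) u := hab _ hs u huS
      rw [show (m : G) * (s : G) * u * ((m : G) * (s : G))⁻¹ = (m : G) * ((s : G) * u * (s : G)⁻¹) * (m : G)⁻¹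
        by group, hsu.eq, mul_inv_cancel_right]
    have hFinv : ∀ x, (F x : G) * y₀ * (F x : G)⁻¹ = y₀⁻¹ := by
      intro x
      obtain ⟨m, rfl⟩ := QuotientGroup.mk_surjective x
      refine hdich _ (F _).2 (by rw [hF, orderOf_conj]; exact hu) (fun hc => huy ?_) y₀ hy₀
      have := hstab _ (inv_mem (hmemN m)) _ (F _).2 (by rw [hF, orderOf_conj]; exact hu) hc
      rw [hF, show (m : G)⁻¹ * ((m : G) * u * (m : G)⁻¹) * ((m : G)⁻¹)⁻¹ = u by group] at this
      exact this
    obtain ⟨p, hp⟩ : ∃ p, p = ∏ x, F x := ⟨_, rfl⟩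
    have hprod : ∀ T : Finset (N ⧸ (S : Subgroup G).subgroupOf N),
        ((∏ x ∈ T, F x : ↥(S : Subgroup G)) : G) * y₀ * ((∏ x ∈ T, F x : ↥(S : Subgroup G)) : G)⁻¹ =
          if Even T.card then y₀ else y₀⁻¹ := by
      intro T
      induction T using Finset.induction_on with
      | empty => simp
      | @insert a T haT ih =>
        rw [Finset.prod_insert haT, Finset.card_insert_of_notMem haT]
        push_cast
        rw [show (F a : G) * ((∏ x ∈ T, F x : ↥(S : Subgroup G)) : G) * y₀ *
          ((F a : G) * ((∏ x ∈ T, F x : ↥(S : Subgroup G)) : G))⁻¹ = (F a : G) *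
          (((∏ x ∈ T, F x : ↥(S : Subgroup G)) : G) * y₀ * ((∏ x ∈ T, F x : ↥(S : Subgroup G)) : G)⁻¹) *
          (F a : G)⁻¹ by group, ih]
        by_cases he : Even T.card
        · rw [if_pos he, if_neg (by rw [Nat.even_add_one]; simpa), hFinv]
        · rw [if_neg he, if_pos (by rw [Nat.even_add_one]; exact he), ← conj_inv, hFinv, inv_inv]
    have hodd : ¬ Even (Finset.univ (α := N ⧸ (S : Subgroup G).subgroupOf N)).card := by
      rw [Finset.card_univ, ← Nat.card_eq_fintype_card]
      intro he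
      exact S.not_dvd_index ((even_iff_two_dvd.1 he).trans (Dvd.intro N.index (relIndex_mul_index (hN ▸ le_normalizer : (S : Subgroup G) ≤ N))))
    have hpy : (p : G) * y₀ * (p : G)⁻¹ = y₀⁻¹ := by
      have := hprod Finset.univ
      rwa [if_neg hodd, ← hp] at this
    have hp1 : (p : G) ≠ 1 := fun q => hyy (by rw [← hpy, q]; simp)
    have hp2 : orderOf (p : G) = 2 := by
      refine orderOf_eq_prime ?_ hp1
      rw [← SubgroupClass.coe_pow, hp, ← Finset.prod_pow, Finset.prod_eq_one, OneMemClass.coe_one]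
      intro x _
      apply Subtype.ext
      push_cast
      obtain ⟨m, rfl⟩ := QuotientGroup.mk_surjective x
      rw [hF, pow_two, show (m : G) * u * (m : G)⁻¹ * ((m : G) * u * (m : G)⁻¹) = (m : G) * (u * u) * (m : G)⁻¹
        by group, sq_of_two hu, mul_one, mul_inv_cancel]
    refine no_fixed hna S hab hp2 p.2 fun m hm => ?_
    let m' : N := ⟨m, hN ▸ hm⟩
    let c : ↥(S : Subgroup G) →* ↥(S : Subgroup G) :=
      { toFun := fun x => ⟨m * x * m⁻¹, hNS m hm x x.2⟩
        map_one' := Subtype.ext (by simp)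
        map_mul' := fun a b => Subtype.ext (by simp [mul_assoc]) }
    have hc : c p = p := by
      rw [hp, map_prod]
      refine Fintype.prod_equiv (MulAction.toPerm m') (fun x => c (F x)) F fun x => ?_
      obtain ⟨k, rfl⟩ := QuotientGroup.mk_surjective x
      apply Subtype.ext
      show m * (F (QuotientGroup.mk k) : G) * m⁻¹ = (F (QuotientGroup.mk (m' * k)) : G)
      rw [hF, hF]
      simp [m', mul_assoc]
    exact mul_inv_eq_iff_eq_mul.1 (congrArg Subtype.val hc)
  have hut : u ≠ t := fun e => huy (e ▸ hy₀.1.symm)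
  have htu : orderOf (t * u) = 2 := orderOf_eq_prime
    (by rw [pow_two, (hS u huS).mul_mul_mul_comm, sq_of_two ht, sq_of_two hu, mul_one])
    (fun e => hut (by rw [eq_inv_of_mul_eq_one_right e, inv_of_two ht]))
  have hinvol : ∀ v ∈ (S : Subgroup G), orderOf v = 2 → v = t ∨ v = u ∨ v = t * u := by
    intro v hvS hv
    by_cases hc : Commute v y₀
    · exact Or.inl (hone v hvS hv hc)
    rcases eq_or_ne (v * u) 1 with e | e
    · exact Or.inr (Or.inl (by rw [eq_inv_of_mul_eq_one_left e, inv_of_two hu]))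
    have h2 : orderOf (v * u) = 2 := orderOf_eq_prime
      (by rw [pow_two, (hab u huS v hvS).mul_mul_mul_comm, sq_of_two hv, sq_of_two hu, mul_one]) e
    have h3 : Commute (v * u) y₀ := by
      have : v * u * y₀ * (v * u)⁻¹ = y₀ := by
        rw [show v * u * y₀ * (v * u)⁻¹ = v * (u * y₀ * u⁻¹) * v⁻¹ by group, huinv y₀ hy₀, ← conj_inv,
          hdich v hvS hv hc y₀ hy₀, inv_inv]
      exact mul_inv_eq_iff_eq_mul.1 this
    refine Or.inr (Or.inr ?_)
    rw [← hone _ (mul_mem hvS huS) h2 h3, mul_assoc, sq_of_two hu, mul_one]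
  have hmove : ∀ x ∈ (S : Subgroup G), orderOf x = 2 → ∃ v ∈ (S : Subgroup G), orderOf v = 2 ∧ v ≠ x ∧ IsConj x v := by
    intro x hxS hx
    by_contra hcon
    push Not at hcon
    refine no_fixed hna S hab hx hxS fun m hm => ?_
    by_contra hc
    exact hcon (m * x * m⁻¹) (hNS m hm x hxS) (by rw [orderOf_conj]; exact hx)
      (fun e => hc (mul_inv_eq_iff_eq_mul.1 e)) (isConj_iff.2 ⟨m, rfl⟩)
  have hconj : ∀ v ∈ (S : Subgroup G), orderOf v = 2 → IsConj v t := by
    have key : IsConj u t ∧ IsConj (t * u) t := by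
      obtain ⟨v, hvS, hv, hne, hc⟩ := hmove t htS ht
      obtain ⟨v', hv'S, hv', hne', hc'⟩ := hmove u huS hu
      obtain ⟨v'', hv''S, hv'', hne'', hc''⟩ := hmove (t * u) (mul_mem htS huS) htu
      rcases hinvol v hvS hv with rfl | rfl | rfl
      · exact absurd rfl hne
      · rcases hinvol v'' hv''S hv'' with rfl | rfl | rfl
        · exact ⟨hc.symm, hc''⟩
        · exact ⟨hc.symm, hc''.trans hc.symm⟩
        · exact absurd rfl hne''
      · rcases hinvol v' hv'S hv' with rfl | rfl | rfl
        · exact ⟨hc', hc.symm⟩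
        · exact absurd rfl hne'
        · exact ⟨hc'.trans hc.symm, hc.symm⟩
    intro v hvS hv
    rcases hinvol v hvS hv with rfl | rfl | rfl
    · exact IsConj.refl _
    · exact key.1
    · exact key.2
  have h4 : ∀ x ∈ (S : Subgroup G), x * x = 1 := by
    intro x hxS
    by_contra hx
    have h4x := four_dvd_of S.isPGroup' hxS hx
    have hr := quarter_order h4x
    have hrS : quarter x ∈ (S : Subgroup G) := (zpowers_le.2 hxS) (quarter_mem x)
    have hro : orderOf (root (quarter x)) = 2 := root_order (even_four hr)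
    have hroS := (zpowers_le.2 hrS) (root_mem (quarter x))
    obtain ⟨g, hg⟩ := isConj_iff.1 (hconj _ hroS hro)
    -- fusion inside the normaliser
    obtain ⟨m, hm, he⟩ := Cfsg.Lib.Transfer.burnside_fusion_set S {root (quarter x)} {t}
      (fun s hs => mem_set_normalizer_iff.2 fun y => by
        simp only [Set.mem_singleton_iff]
        constructor
        · rintro rfl; rw [(hab s hs _ hroS).eq, mul_inv_cancel_right]
        · intro e
          rw [show y = s⁻¹ * (s * y * s⁻¹) * s by group, e, mul_assoc, (hab _ hroS s hs).eq, inv_mul_cancel_left])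
      (fun s hs => mem_set_normalizer_iff.2 fun y => by
        simp only [Set.mem_singleton_iff]
        constructor
        · rintro rfl; rw [(hS s hs).eq, mul_inv_cancel_right]
        · intro e
          rw [show y = s⁻¹ * (s * y * s⁻¹) * s by group, e, mul_assoc, (hS s hs).symm.eq, inv_mul_cancel_left])
      g (by simp [hg])
    simp only [Set.image_singleton, Set.singleton_eq_singleton_iff] at he
    obtain ⟨r, hrdef⟩ : ∃ r, r = m * quarter x * m⁻¹ := ⟨_, rfl⟩
    have hr4 : orderOf r = 4 := by rw [hrdef, orderOf_conj]; exact hr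
    have hrS' : r ∈ (S : Subgroup G) := hrdef ▸ hNS m hm _ hrS
    have hrt : r * r = t := by rw [sq_eq_root hr4, hrdef, root_conj, he]
    have hcr : ∀ k ∈ (S : Subgroup G), orderOf k = 4 → k * k = t → Commute k y₀ := fun k _ hk4 hkt =>
      commute_of_root h ht (n := 2) (by rw [show (2 : ℕ) ^ 2 = 4 from rfl, ← hk4, pow_orderOf_eq_one]) hy₀
        (by rw [← sq_eq_root hk4, hkt]; exact hy₀.1.symm)
    have hru : (r * u) * (r * u) = t := by
      rw [(hab u huS r hrS').mul_mul_mul_comm, hrt, sq_of_two hu, mul_one]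
    have hru4 : orderOf (r * u) = 4 := by
      refine orderOf_eq_prime_pow (p := 2) (n := 1) (by rw [pow_one, pow_two, hru]; exact ne_one_of_two ht) ?_
      rw [show (2 : ℕ) ^ (1 + 1) = 2 * 2 from rfl, pow_mul, pow_two, pow_two, hru, sq_of_two ht]
    have h5 := ((hcr r hrS' hr4 hrt).inv_left).mul_left (hcr (r * u) (mul_mem hrS' huS) hru4 hru)
    rw [inv_mul_cancel_left] at h5
    exact huy h5
  have hgen : (S : Subgroup G) ≤ zpowers t ⊔ zpowers u := by
    intro x hx
    rcases eq_or_ne x 1 with rfl | hx1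
    · exact one_mem _
    rcases hinvol x hx (orderOf_eq_prime (by rw [pow_two, h4 x hx]) hx1) with rfl | rfl | rfl
    · exact mem_sup_left (mem_zpowers _)
    · exact mem_sup_right (mem_zpowers _)
    · exact mul_mem (mem_sup_left (mem_zpowers _)) (mem_sup_right (mem_zpowers _))
  refine psl_of_frame h hna ht S hS htS (eq_root (mem_zpowers t) ht) (mem_zpowers t)
    (fun w hw => hw.1) hu huS hut huinv (by rw [(hS u huS).eq, mul_inv_cancel_right, inv_of_two ht]) hgen
    (fun v hvS hv hc => hone v hvS hv (hc y₀ hy₀.1).symm) hconj fun h12 => ?_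
  -- the order is not twelve
  have hW3 : 3 ≤ Nat.card (oddCent h ht) := by
    have h1 : orderOf (⟨y₀, hy₀⟩ : oddCent h ht) ≤ Nat.card (oddCent h ht) :=
      Nat.le_of_dvd Nat.card_pos (orderOf_dvd_natCard _)
    rw [Subgroup.orderOf_mk] at h1
    obtain ⟨j, hj⟩ := hy₀.2
    have : orderOf y₀ ≠ 1 := fun e => hy1 (orderOf_eq_one_iff.1 e)
    omega
  have hV : 4 ∣ Nat.card (centralizer ({t} : Set G)) := by
    refine dvd_trans ?_ (card_dvd_of_le (fun s hs => mem_centralizer_singleton_iff.2 (hS s hs) :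
      (S : Subgroup G) ≤ centralizer ({t} : Set G)))
    obtain ⟨k, hk⟩ := IsPGroup.iff_card.1 S.isPGroup'
    rw [hk]
    rcases k with _ | _ | k
    · have := orderOf_dvd_natCard (⟨t, htS⟩ : (S : Subgroup G))
      rw [Subgroup.orderOf_mk, ht, hk] at this
      norm_num at this
    · exfalso
      haveI : IsCyclic ↥(S : Subgroup G) := isCyclic_of_prime_card (p := 2) (by rw [hk]; rfl)
      obtain ⟨gen, hgen'⟩ := IsCyclic.exists_generator (α := ↥(S : Subgroup G))
      have hmz : ∀ x ∈ (S : Subgroup G), x ∈ zpowers (gen : G) := fun x hx => by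
        obtain ⟨i, hi⟩ := hgen' ⟨x, hx⟩
        exact ⟨i, by simpa using congrArg Subtype.val hi⟩
      exact hut (invol_unique (hmz u huS) (hmz t htS) hu ht)
    · exact ⟨2 ^ k, by ring⟩
  have hdvd : Nat.card (oddCent h ht) ∣ Nat.card (centralizer ({t} : Set G)) :=
    card_dvd_of_le fun y hy => mem_centralizer_singleton_iff.2 hy.1
  have hoddW : Odd (Nat.card (oddCent h ht)) := by
    rw [← Nat.not_even_iff_odd]
    intro he
    obtain ⟨a, ha⟩ := exists_prime_orderOf_dvd_card' (G := ↥(oddCent h ht)) 2 (even_iff_two_dvd.1 he)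
    have := a.2.2
    rw [Subgroup.orderOf_coe, ha] at this
    exact absurd this (by decide)
  have hcop : Nat.Coprime 4 (Nat.card (oddCent h ht)) := Nat.Coprime.pow_left 2 ((Nat.coprime_two_left).2 hoddW)
  have h12' := Nat.le_of_dvd Nat.card_pos (hcop.mul_dvd_of_dvd_of_dvd hV hdvd)
  have hle := Nat.card_le_card_of_injective _ (centralizer ({t} : Set G)).subtype_injective
  have htop : centralizer ({t} : Set G) = ⊤ := eq_top_of_le_card _ (by omega)
  exact not_central hna (ne_one_of_two ht) fun g => mem_centralizer_singleton_iff.1 (htop ▸ mem_top g)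

/-- All involutions have abelian centralisers, or some one is as above. -/
theorem psl_of_abelian [IsSimpleGroup G] (hna : ¬ IsMulCommutative G) (heven : Even (Nat.card G))
    (hab : ∀ S : Sylow 2 G, ∀ a ∈ (S : Subgroup G), ∀ b ∈ (S : Subgroup G), Commute a b) : IsPSLTwo G := by
  haveI := Fact.mk Nat.prime_two
  by_cases hex : ∃ (t : G) (ht : orderOf t = 2) (S : Sylow 2 G) (y z : G),
      t ∈ (S : Subgroup G) ∧ y ∈ oddCent h ht ∧ z ∈ (S : Subgroup G) ∧ ¬ Commute z y
  · obtain ⟨t, ht, S, y, z, htS, hy, hz, hne⟩ := hex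
    exact psl_of_nonabelian h hna S (hab S) ht htS hy hz hne
  push Not at hex
  have hcent : ∀ t : G, orderOf t = 2 → IsMulCommutative ↥(centralizer ({t} : Set G)) := by
    intro t ht
    obtain ⟨S, hSt⟩ := (IsPGroup.of_card (p := 2) (n := 1)
      (show Nat.card ↥(zpowers t) = 2 ^ 1 by rw [Nat.card_zpowers, ht, pow_one])).exists_le_sylow
    have htS := hSt (mem_zpowers t)
    have hS : ∀ s ∈ (S : Subgroup G), Commute s t := fun s hs => hab S s hs t htS
    refine ⟨⟨fun a b => Subtype.ext ?_⟩⟩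
    obtain ⟨w, hw, s, hs, e⟩ := decompose h ht S hS (mem_centralizer_singleton_iff.1 a.2)
    obtain ⟨w', hw', s', hs', e'⟩ := decompose h ht S hS (mem_centralizer_singleton_iff.1 b.2)
    show (a : G) * b = b * a
    rw [← e, ← e']
    exact Commute.mul_left ((show Commute w w' from oddCent_comm h ht hw hw').mul_right (hex t ht S w s' htS hw hs').symm)
      ((hex t ht S w' s htS hw' hs).mul_right (hab S s hs s' hs'))
  rcases Cfsg.Agent.S2202.result heven hcent with hcyc | hnorm | ⟨F, i1, i2, A, i3, i4, hchar, hoA, ⟨φ⟩⟩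
  · have hncyc : ¬ IsCyclic G := fun hc => hna ⟨⟨fun a b => IsCyclic.commGroup.mul_comm a b⟩⟩
    obtain ⟨E, hE⟩ := Cfsg.Agent.S0204.result hncyc
    have hEp : IsPGroup 2 E := IsPGroup.of_card (n := 2) (by rw [hE.card_four]; rfl)
    obtain ⟨S, hES⟩ := hEp.exists_le_sylow
    haveI := hcyc S
    haveI : IsCyclic E := isCyclic_of_injective (Subgroup.inclusion hES) (Subgroup.inclusion_injective hES)
    exact absurd (inferInstance : IsCyclic E) hE.not_isCyclic
  · obtain ⟨S⟩ := (inferInstance : Nonempty (Sylow 2 G))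
    rcases IsSimpleGroup.eq_bot_or_eq_top_of_normal _ (hnorm S) with e | e
    · exact absurd (S.not_dvd_index) (not_not.2 (by rw [e, index_bot]; exact even_iff_two_dvd.1 heven))
    · exact absurd ⟨⟨fun a b => hab S a (e ▸ mem_top a) b (e ▸ mem_top b)⟩⟩ hna
  · obtain ⟨Φ, hΦ⟩ : ∃ Φ : G →* A, Φ = (MonoidHom.snd _ A).comp φ.toMonoidHom := ⟨_, rfl⟩
    have hA : ∀ a : A, a = 1 := by
      rcases IsSimpleGroup.eq_bot_or_eq_top_of_normal Φ.ker inferInstance with e | e
      · exfalso
        exact hna ⟨⟨fun a b => (MonoidHom.ker_eq_bot_iff Φ).1 e (by rw [map_mul, map_mul, mul_comm])⟩⟩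
      · intro a
        have := MonoidHom.mem_ker.1 (e ▸ mem_top (φ.symm (1, a)) : φ.symm (1, a) ∈ Φ.ker)
        simpa [hΦ] using this
    let ψ : G →* Matrix.ProjectiveSpecialLinearGroup (Fin 2) F :=
      (QuotientGroup.mk' (center (Matrix.SpecialLinearGroup (Fin 2) F))).comp
        ((MonoidHom.fst _ A).comp φ.toMonoidHom)
    have hcenter : center (Matrix.SpecialLinearGroup (Fin 2) F) = ⊥ := by
      rw [eq_bot_iff]
      intro M hM
      obtain ⟨r, hr, hrM⟩ := Matrix.SpecialLinearGroup.mem_center_iff.1 hM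
      rw [Fintype.card_fin] at hr
      haveI := hchar
      have : r = 1 := CharTwo.sq_injective (by simpa using hr : r ^ 2 = (1 : F) ^ 2)
      rw [mem_bot]
      apply Subtype.ext
      rw [← hrM, this]
      simp
    have hinj : Function.Injective ψ := by
      intro a b e
      apply φ.injective
      refine Prod.ext ?_ ((hA _).trans (hA _).symm)
      have := QuotientGroup.eq.1 e
      rw [hcenter, mem_bot, inv_mul_eq_one] at this
      exact this
    have hsurj : Function.Surjective ψ := fun x => by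
      obtain ⟨M, rfl⟩ := QuotientGroup.mk'_surjective _ x
      exact ⟨φ.symm (M, 1), by simp [ψ]⟩
    refine ⟨F, i1, i2, ?_, ⟨MulEquiv.ofBijective ψ ⟨hinj, hsurj⟩⟩⟩
    by_contra hle
    haveI := hchar
    obtain ⟨m, -, hm⟩ := @FiniteField.card F _ i2 2 _
    have hm1 : (m : ℕ) = 1 := by
      by_contra hh
      have h4 : 2 ^ 2 ≤ 2 ^ (m : ℕ) := Nat.pow_le_pow_right two_pos (by have := m.pos; omega)
      rw [← hm] at h4
      omega
    rw [hm1, pow_one] at hm
    -- a group of order six is not simple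
    have h6 : Nat.card G = 6 := by
      rw [Nat.card_congr (MulEquiv.ofBijective ψ ⟨hinj, hsurj⟩).toEquiv]
      have := Cfsg.Lib.Classical.SmallPSL.card_psl hm
      norm_num at this
      exact this
    haveI := Fact.mk Nat.prime_three
    obtain ⟨x, hx⟩ := exists_prime_orderOf_dvd_card' (G := G) 3 (by rw [h6]; norm_num)
    have hidx : (zpowers x).index = 2 := by
      have := (zpowers x).card_mul_index
      rw [Nat.card_zpowers, hx, h6] at this
      omega
    exact no_index_two hna (normal_of_index_eq_two hidx) hidx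

end Cfsg.Lib.CyclicNorm
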