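import Cfsg.Agent.S4211
import Mathlib

/-!
Groups in which a cyclic subgroup of even order and its nontrivial subgroups have one normaliser: the
centraliser of its involution.
-/

set_option autoImplicit false
set_option linter.unusedSectionVars false

namespace Cfsg.Lib.CyclicNorm

open Subgroup

universe u

variable {G : Type u} [Group G]

/-- For a cyclic subgroup containing the involution `t`, every nontrivial subgroup has normaliser `C(t)`. -/
def CycNorm (G : Type*) [Group G] : Prop :=
  ∀ x t y : G, orderOf t = 2 → t ∈ zpowers x → y ∈ zpowers x → y ≠ 1 →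
    ∀ g : G, (g * y * g⁻¹ ∈ zpowers y ↔ Commute g t)

/-- The involution in the cyclic group generated by an element of even order. -/
noncomputable def root (x : G) : G := x ^ (orderOf x / 2)

theorem root_mem (x : G) : root x ∈ zpowers x := npow_mem_zpowers x _

theorem root_commute (x : G) : Commute x (root x) := Commute.self_pow x _

theorem ne_one_of_two {t : G} (ht : orderOf t = 2) : t ≠ 1 := fun e => by
  rw [e, orderOf_one] at ht; omega

theorem sq_of_two {t : G} (ht : orderOf t = 2) : t * t = 1 := by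
  rw [← pow_two, ← ht, pow_orderOf_eq_one]

theorem inv_of_two {t : G} (ht : orderOf t = 2) : t⁻¹ = t := inv_eq_of_mul_eq_one_right (sq_of_two ht)

theorem orderOf_conj (g x : G) : orderOf (g * x * g⁻¹) = orderOf x := MulEquiv.orderOf_eq (MulAut.conj g) x

section Finite

variable [Finite G]

theorem root_order {x : G} (h : Even (orderOf x)) : orderOf (root x) = 2 := by
  have hpos := orderOf_pos x
  obtain ⟨k, hk⟩ := h
  rw [root, orderOf_pow_of_dvd (by omega) ⟨2, by omega⟩]
  rw [show orderOf x / 2 = k by omega, hk, ← two_mul, Nat.mul_div_cancel _ (by omega)]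

theorem eq_root {x a : G} (ha : a ∈ zpowers x) (ha2 : orderOf a = 2) : a = root x := by
  classical
  rw [mem_zpowers_iff_mem_range_orderOf, Finset.mem_image] at ha
  obtain ⟨i, hi, rfl⟩ := ha
  rw [Finset.mem_range] at hi
  have h1 : orderOf x ∣ i * 2 := orderOf_dvd_of_pow_eq_one (by rw [pow_mul, ← ha2, pow_orderOf_eq_one])
  have h0 : i ≠ 0 := fun e => ne_one_of_two ha2 (by rw [e, pow_zero])
  obtain ⟨j, hj⟩ := h1
  have : j = 1 := by
    rcases j with _ | _ | j
    · omega
    · rfl
    · exfalso; nlinarith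
  subst this
  rw [root, show orderOf x / 2 = i by omega]

theorem invol_unique {x a b : G} (ha : a ∈ zpowers x) (hb : b ∈ zpowers x) (ha2 : orderOf a = 2)
    (hb2 : orderOf b = 2) : a = b := (eq_root ha ha2).trans (eq_root hb hb2).symm

theorem root_conj (g x : G) : root (g * x * g⁻¹) = g * root x * g⁻¹ := by
  rw [root, root, orderOf_conj, conj_pow]

theorem root_eq_of_mem {x y : G} (hy : y ∈ zpowers x) (he : Even (orderOf y)) : root y = root x :=
  eq_root ((zpowers_le.2 hy) (root_mem y)) (root_order he)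

theorem even_of_two_elt {x : G} {n : ℕ} (hx : x ^ 2 ^ n = 1) (h1 : x ≠ 1) : Even (orderOf x) := by
  obtain ⟨k, -, hk⟩ := (Nat.dvd_prime_pow Nat.prime_two).1 (orderOf_dvd_of_pow_eq_one hx)
  rcases k with _ | k
  · exact absurd (orderOf_eq_one_iff.1 (by simpa using hk)) h1
  · exact ⟨2 ^ k, by rw [hk, pow_succ]; ring⟩

/-- Elements generating cyclic subgroups that normalise each other and meet trivially commute. -/
theorem commute_of_norm {a b : G} (h1 : a * b * a⁻¹ ∈ zpowers b) (h2 : b * a * b⁻¹ ∈ zpowers a)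
    (h : ∀ z ∈ zpowers a, z ∈ zpowers b → z = 1) : Commute a b := by
  have e := h (a * b * a⁻¹ * b⁻¹) ?_ (mul_mem h1 (inv_mem (mem_zpowers b)))
  · exact mul_inv_eq_one.1 (by simpa [mul_assoc] using e : a * b * (b * a)⁻¹ = 1)
  · rw [show a * b * a⁻¹ * b⁻¹ = a * (b * a * b⁻¹)⁻¹ by group]
    exact mul_mem (mem_zpowers a) (inv_mem h2)

/-- Two 2-elements with different involutions generate cyclic groups meeting trivially. -/
theorem disjoint_of_root {a b : G} {n : ℕ} (ha : a ^ 2 ^ n = 1) (hr : root a ≠ root b) :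
    ∀ z ∈ zpowers a, z ∈ zpowers b → z = 1 := by
  intro z hz hz'
  by_contra h1
  obtain ⟨k, rfl⟩ := hz
  have he : Even (orderOf (a ^ k)) := even_of_two_elt (n := n) (by
    rw [← zpow_natCast (a ^ k), ← zpow_mul, mul_comm, zpow_mul, zpow_natCast, ha, one_zpow]) h1
  exact hr ((root_eq_of_mem (zpow_mem_zpowers a k) he).symm.trans (root_eq_of_mem hz' he))

theorem cycNorm_of_injective {H : Type*} [Group H] (f : H →* G) (hf : Function.Injective f) (h : CycNorm G) :
    CycNorm H := by
  intro x t y ht htx hyx hy g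
  have hm : ∀ {a b : H}, a ∈ zpowers b → f a ∈ zpowers (f b) := fun {a b} hab => by
    obtain ⟨k, rfl⟩ := hab; exact ⟨k, (map_zpow f b k).symm⟩
  rw [show Commute g t ↔ Commute (f g) (f t) from ⟨fun e => e.map f, fun e => hf (by simpa using e.eq)⟩,
    ← h (f x) (f t) (f y) (by rw [orderOf_injective f hf]; exact ht) (hm htx) (hm hyx)
      (fun e => hy (hf (by rw [e, map_one]))) (f g)]
  constructor
  · intro e; simpa using hm e
  · rintro ⟨k, hk⟩
    exact ⟨k, hf (by simpa using hk)⟩

theorem cycNorm_of_hyp (hii : ∀ X : Subgroup G, IsCyclic ↥X → Even (Nat.card ↥X) → ∀ Y : Subgroup G, Y ≤ X →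
    Y ≠ ⊥ → normalizer (X : Set G) = normalizer (Y : Set G)) : CycNorm G := by
  intro x t y ht htx hyx hy g
  have hev : Even (Nat.card (zpowers x)) := by
    rw [Nat.card_zpowers]
    exact even_iff_two_dvd.2 (ht ▸ orderOf_dvd_of_mem_zpowers htx)
  have hn : ∀ a g : G, g ∈ normalizer (zpowers a : Set G) ↔ g * a * g⁻¹ ∈ zpowers a := by
    intro a g
    refine ⟨fun e => (mem_normalizer_iff.1 e a).1 (mem_zpowers a), fun e => ?_⟩
    have h1 : (zpowers a).map (MulAut.conj g).toMonoidHom = zpowers a := by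
      refine eq_of_le_of_card_ge ?_ (card_map_of_injective (f := (MulAut.conj g).toMonoidHom)
        (MulAut.conj g).injective).ge
      rw [MonoidHom.map_zpowers, zpowers_le]
      exact e
    rw [mem_normalizer_iff]
    intro z
    conv_rhs => rw [← h1]
    rw [mem_map_equiv, MulAut.conj_symm_apply]
    simp [mul_assoc]
  have h1 := hii (zpowers x) inferInstance hev (zpowers y) (zpowers_le.2 hyx)
    (zpowers_ne_bot.2 hy)
  have h2 := hii (zpowers x) inferInstance hev (zpowers t) (zpowers_le.2 htx)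
    (zpowers_ne_bot.2 (ne_one_of_two ht))
  rw [← hn y g, ← h1, h2, hn t g]
  constructor
  · intro e
    have := invol_unique e (mem_zpowers t) (by rw [orderOf_conj]; exact ht) ht
    exact mul_inv_eq_iff_eq_mul.1 this
  · intro e
    rw [show g * t * g⁻¹ = t by rw [e.eq, mul_inv_cancel_right]]
    exact mem_zpowers t

variable (h : CycNorm G)
include h

theorem root_rule {x y : G} (he : Even (orderOf x)) (hy : y ∈ zpowers x) (hy1 : y ≠ 1) (g : G) :
    g * y * g⁻¹ ∈ zpowers y ↔ Commute g (root x) :=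
  h x (root x) y (root_order he) (root_mem x) hy hy1 g

theorem self_rule {x : G} (he : Even (orderOf x)) (g : G) :
    g * x * g⁻¹ ∈ zpowers x ↔ Commute g (root x) :=
  root_rule h he (mem_zpowers x) (fun e => by rw [e, orderOf_one] at he; simp at he) g

theorem odd_rule {t y : G} (ht : orderOf t = 2) (hc : Commute y t) (ho : Odd (orderOf y)) (hy : y ≠ 1)
    (g : G) : g * y * g⁻¹ ∈ zpowers y ↔ Commute g t := by
  obtain ⟨k, hk⟩ := ho
  have e2 : t ^ 2 = 1 := by rw [pow_two, sq_of_two ht]
  refine h (y * t) t y ht ?_ ?_ hy g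
  · refine ⟨(orderOf y : ℕ), ?_⟩
    show (y * t) ^ (orderOf y : ℤ) = t
    rw [zpow_natCast, hc.mul_pow, pow_orderOf_eq_one, one_mul, hk, pow_succ, pow_mul, e2, one_pow, one_mul]
  · refine ⟨(orderOf y + 1 : ℕ), ?_⟩
    show (y * t) ^ ((orderOf y + 1 : ℕ) : ℤ) = y
    rw [zpow_natCast, hc.mul_pow, pow_succ, pow_orderOf_eq_one, one_mul, hk,
      show 2 * k + 1 + 1 = 2 * (k + 1) by ring, pow_mul, e2, one_pow, mul_one]

/-- The odd elements of the centraliser of an involution. -/
noncomputable def oddCent {t : G} (ht : orderOf t = 2) : Subgroup G where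
  carrier := {y | Commute y t ∧ Odd (orderOf y)}
  one_mem' := ⟨Commute.one_left t, by simp⟩
  inv_mem' := fun {x} hx => ⟨hx.1.inv_left, by rw [orderOf_inv]; exact hx.2⟩
  mul_mem' := fun {y z} hy hz => ⟨hy.1.mul_left hz.1, by
    rcases eq_or_ne y 1 with rfl | hy1
    · rw [one_mul]; exact hz.2
    have key : ∀ k : ℕ, ∃ a ∈ zpowers y, (y * z) ^ k = a * z ^ k := by
      intro k
      induction k with
      | zero => exact ⟨1, one_mem _, by simp⟩
      | succ k ih =>
        obtain ⟨a, ha, e⟩ := ih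
        have := (odd_rule h ht hy.1 hy.2 hy1 (z ^ k)).2 (hz.1.pow_left k)
        exact ⟨_, mul_mem ha this, by rw [pow_succ, e, pow_succ]; group⟩
    obtain ⟨a, ha, e⟩ := key (orderOf z)
    rw [pow_orderOf_eq_one, mul_one] at e
    refine (hz.2.mul hy.2).of_dvd_nat (orderOf_dvd_of_pow_eq_one ?_)
    obtain ⟨i, rfl⟩ := ha
    rw [pow_mul, e]
    show (y ^ i) ^ orderOf y = 1
    rw [← zpow_natCast, ← zpow_mul, mul_comm, zpow_mul, zpow_natCast, pow_orderOf_eq_one, one_zpow]⟩

theorem mem_oddCent {t y : G} (ht : orderOf t = 2) :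
    y ∈ oddCent h ht ↔ Commute y t ∧ Odd (orderOf y) := Iff.rfl

theorem oddCent_conj {t g y : G} (ht : orderOf t = 2) (hg : Commute g t) (hy : y ∈ oddCent h ht) :
    g * y * g⁻¹ ∈ oddCent h ht :=
  ⟨(hg.mul_left hy.1).mul_left hg.inv_left, by rw [orderOf_conj]; exact hy.2⟩

theorem oddCent_comm {t : G} (ht : orderOf t = 2) {y z : G} (hy : y ∈ oddCent h ht) (hz : z ∈ oddCent h ht) :
    y * z = z * y := by
  suffices hc : IsMulCommutative ↥(oddCent h ht) from
    congrArg Subtype.val (hc.is_comm.comm ⟨y, hy⟩ ⟨z, hz⟩)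
  have hodd : Odd (Nat.card ↥(oddCent h ht)) := by
    rw [← Nat.not_even_iff_odd]
    intro he
    haveI := Fact.mk Nat.prime_two
    obtain ⟨a, ha⟩ := exists_prime_orderOf_dvd_card' (G := ↥(oddCent h ht)) 2 (even_iff_two_dvd.1 he)
    have := a.2.2
    rw [Subgroup.orderOf_coe, ha] at this
    exact absurd this (by decide)
  by_contra hna
  have hn : ∀ H : Subgroup ↥(oddCent h ht), H.Normal := by
    refine fun H => ⟨fun a ha g => ?_⟩
    rcases eq_or_ne a 1 with rfl | ha1
    · simp
    obtain ⟨k, hk⟩ := (odd_rule h ht a.2.1 a.2.2 (fun e => ha1 (Subtype.ext e)) (g : G)).2 g.2.1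
    have : g * a * g⁻¹ = a ^ k := Subtype.ext (by simpa using hk.symm)
    rw [this]
    exact zpow_mem ha k
  obtain ⟨Q, E, A, ⟨φ⟩, -⟩ := Cfsg.Agent.S4211.result hna hn
  have h8 := Q.card_subgroup_dvd_card
  rw [Nat.card_congr φ.toEquiv, Nat.card_eq_fintype_card, QuaternionGroup.card] at h8
  exact absurd (even_iff_two_dvd.2 (dvd_trans ⟨4, rfl⟩ h8)) (Nat.not_even_iff_odd.2 hodd)

/-- Two involutions centralising one nontrivial element of odd order have one centraliser. -/
theorem same_cent {t v y : G} (ht : orderOf t = 2) (hv : orderOf v = 2) (hc : Commute y t) (hc' : Commute y v)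
    (ho : Odd (orderOf y)) (hy : y ≠ 1) (g : G) : Commute g t ↔ Commute g v :=
  (odd_rule h ht hc ho hy g).symm.trans (odd_rule h hv hc' ho hy g)

/-- An involution of `C(t)` centralises the odd part, or inverts it. -/
theorem centralises_or_inverts {t v : G} (ht : orderOf t = 2) (hv : orderOf v = 2) (hc : Commute v t) :
    (∀ y ∈ oddCent h ht, Commute v y) ∨ (∀ y ∈ oddCent h ht, v * y * v⁻¹ = y⁻¹) := by
  by_cases hex : ∃ y ∈ oddCent h ht, y ≠ 1 ∧ Commute v y
  · obtain ⟨y, hy, hy1, hvy⟩ := hex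
    exact Or.inl fun z hz => ((same_cent h ht hv hy.1 hvy.symm hy.2 hy1 z).1 hz.1).symm
  · right
    intro y hy
    have hm := oddCent_conj h ht hc hy
    have hf : Commute v (y * (v * y * v⁻¹)) := by
      have e : v * (y * (v * y * v⁻¹)) * v⁻¹ = (v * y * v⁻¹) * y := by
        rw [inv_of_two hv]
        calc v * (y * (v * y * v)) * v = (v * y * v) * y * (v * v) := by group
          _ = _ := by rw [sq_of_two hv, mul_one]
      rw [oddCent_comm h ht hm hy] at e
      exact mul_inv_eq_iff_eq_mul.1 e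
    by_contra hne
    exact hex ⟨_, mul_mem hy hm, fun e => hne (eq_inv_of_mul_eq_one_right e), hf⟩

/-- A 2-element whose involution centralises an element of `C(t)` of odd order centralises it. -/
theorem commute_of_root {t s y : G} {n : ℕ} (ht : orderOf t = 2) (hs : s ^ 2 ^ n = 1)
    (hy : y ∈ oddCent h ht) (hr : Commute (root s) y) : Commute s y := by
  rcases eq_or_ne s 1 with rfl | hs1
  · exact Commute.one_left y
  rcases eq_or_ne y 1 with rfl | hy1
  · exact Commute.one_right s
  have he := even_of_two_elt hs hs1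
  have h1 : y * s * y⁻¹ ∈ zpowers s := (self_rule h he y).2 hr.symm
  have h2 : s * y * s⁻¹ ∈ zpowers y :=
    (odd_rule h ht hy.1 hy.2 hy1 s).2
      ((same_cent h ht (root_order he) hy.1 hr.symm hy.2 hy1 s).2 (root_commute s))
  refine commute_of_norm h2 h1 fun z hz hz' => ?_
  have d1 := orderOf_dvd_of_mem_zpowers hz
  have d2 := orderOf_dvd_of_mem_zpowers hz'
  exact orderOf_eq_one_iff.1 (Nat.eq_one_of_dvd_coprimes
    (((Nat.Coprime.pow_left n ((Nat.coprime_two_left).2 hy.2))).coprime_dvd_left (orderOf_dvd_of_pow_eq_one hs))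
    d1 d2)

theorem oddCent_inf {t : G} (ht : orderOf t = 2) {S : Subgroup G} (hS : IsPGroup 2 S) {w : G}
    (hw : w ∈ oddCent h ht) (hwS : w ∈ S) : w = 1 := by
  obtain ⟨k, hk⟩ := hS ⟨w, hwS⟩
  by_contra h1
  exact Nat.not_even_iff_odd.2 hw.2 (even_of_two_elt (by simpa using congrArg Subtype.val hk) h1)

theorem sylow_le_normalizer {t : G} (ht : orderOf t = 2) {T : Subgroup G} (hT : ∀ s ∈ T, Commute s t) :
    T ≤ normalizer (oddCent h ht : Set G) := fun g hg => mem_normalizer_iff.2 fun y =>
  ⟨oddCent_conj h ht (hT g hg), fun e => by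
    simpa [mul_assoc] using oddCent_conj h ht (hT g hg).inv_left e⟩

theorem centralizer_eq {t : G} (ht : orderOf t = 2) (S : Sylow 2 G) (hS : ∀ s ∈ (S : Subgroup G), Commute s t) :
    oddCent h ht ⊔ (S : Subgroup G) = centralizer ({t} : Set G) := by
  have hle : oddCent h ht ⊔ (S : Subgroup G) ≤ centralizer ({t} : Set G) :=
    sup_le (fun y hy => mem_centralizer_singleton_iff.2 hy.1) (fun s hs => mem_centralizer_singleton_iff.2 (hS s hs))
  refine eq_of_le_of_card_ge hle (Nat.le_of_dvd Nat.card_pos ?_)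
  rw [Nat.dvd_iff_prime_pow_dvd_dvd]
  intro p k hp hk
  haveI := Fact.mk hp
  rcases eq_or_ne p 2 with rfl | hp2
  · have h2 : 2 ^ k ∣ Nat.card (S : Subgroup G) := by
      rw [S.card_eq_multiplicity]
      exact pow_dvd_pow 2 ((hp.pow_dvd_iff_le_factorization Nat.card_pos.ne').1
        (hk.trans (card_subgroup_dvd_card _)))
    exact h2.trans (card_dvd_of_le le_sup_right)
  · obtain ⟨R, hR⟩ := Sylow.exists_subgroup_card_pow_prime p hk
    have hRW : R.map (centralizer ({t} : Set G)).subtype ≤ oddCent h ht := by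
      rintro _ ⟨r, hr, rfl⟩
      refine ⟨mem_centralizer_singleton_iff.1 r.2, ?_⟩
      have hd : orderOf (⟨r, hr⟩ : R) ∣ p ^ k := hR ▸ orderOf_dvd_natCard _
      rw [Subgroup.orderOf_mk] at hd
      show Odd (orderOf (r : G))
      rw [Subgroup.orderOf_coe]
      exact ((hp.odd_of_ne_two hp2).pow).of_dvd_nat hd
    have h3 := card_dvd_of_le (hRW.trans (le_sup_left : oddCent h ht ≤ oddCent h ht ⊔ (S : Subgroup G)))
    rwa [card_map_of_injective (centralizer ({t} : Set G)).subtype_injective, hR] at h3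

theorem decompose {t : G} (ht : orderOf t = 2) (S : Sylow 2 G) (hS : ∀ s ∈ (S : Subgroup G), Commute s t)
    {g : G} (hg : Commute g t) : ∃ w ∈ oddCent h ht, ∃ s ∈ (S : Subgroup G), w * s = g := by
  have : g ∈ oddCent h ht ⊔ (S : Subgroup G) := by
    rw [centralizer_eq h ht S hS]; exact mem_centralizer_singleton_iff.2 hg
  rw [← SetLike.mem_coe, coe_mul_of_right_le_normalizer_left _ _ (sylow_le_normalizer h ht hS)] at this
  exact Set.mem_mul.1 this

/-- An involution that is central in `C(t)` lies in each Sylow 2-subgroup inside `C(t)`. -/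
theorem mem_sylow_of_central {t v : G} (hv : orderOf v = 2) (S : Sylow 2 G)
    (hS : ∀ s ∈ (S : Subgroup G), Commute s t) (hvc : ∀ g, Commute g t → Commute g v) :
    v ∈ (S : Subgroup G) := by
  have hp : IsPGroup 2 ↥(zpowers v) := IsPGroup.of_card (n := 1) (by rw [Nat.card_zpowers, hv, pow_one])
  have hn : (S : Subgroup G) ≤ normalizer ((zpowers v : Subgroup G) : Set G) := fun s hs => by
    refine mem_normalizer_iff.2 fun z => ?_
    have hc : ∀ z ∈ zpowers v, s * z * s⁻¹ = z := by
      rintro _ ⟨i, rfl⟩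
      rw [((hvc s (hS s hs)).zpow_right i).eq, mul_inv_cancel_right]
    refine ⟨fun e => by rwa [hc z e], fun e => ?_⟩
    have e1 := hc _ e
    rw [show z = s⁻¹ * (s * z * s⁻¹) * s by group]
    nth_rewrite 1 [← e1]
    convert e using 1
    group
  exact S.is_maximal' (S.isPGroup'.to_sup_of_normal_right' hp hn) le_sup_left ▸ mem_sup_right (mem_zpowers v)

end Finite

end Cfsg.Lib.CyclicNorm
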