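import Cfsg.Agent.InvolCalc.CyclicNormalisers.Roots
import Cfsg.Agent.InvolCalc.ZStarApps
import Cfsg.Agent.InvolCalc.Classes
import Cfsg.Agent.Transfer.Fusion
import Cfsg.Agent.BSW.Main
import Cfsg.Agent.PSLOrderSpec.Action

/-!
The steps common to the two cases, and the reduction to the theorem of Brauer, Suzuki and Wall.
-/

set_option autoImplicit false
set_option linter.unusedSectionVars false

namespace Cfsg.Lib.CyclicNorm

open Subgroup

universe u

variable {G : Type u} [Group G] [Finite G]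

/-- `G` is `PSL(2, q)` for some `q > 3`. -/
def IsPSLTwo (G : Type u) [Group G] : Prop :=
  ∃ (F : Type) (_ : Field F) (_ : Fintype F), 3 < Fintype.card F ∧
    Nonempty (G ≃* Matrix.ProjectiveSpecialLinearGroup (Fin 2) F)

theorem no_index_two [IsSimpleGroup G] (hna : ¬ IsMulCommutative G) {N : Subgroup G} (hN : N.Normal)
    (h2 : N.index = 2) : False := by
  rcases IsSimpleGroup.eq_bot_or_eq_top_of_normal N hN with rfl | rfl
  · rw [index_bot] at h2
    haveI := Fact.mk Nat.prime_two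
    haveI := isCyclic_of_prime_card (p := 2) h2
    exact hna ⟨⟨fun a b => IsCyclic.commGroup.mul_comm a b⟩⟩
  · rw [index_top] at h2; omega

theorem not_central [IsSimpleGroup G] (hna : ¬ IsMulCommutative G) {t : G} (ht : t ≠ 1)
    (hc : ∀ g : G, Commute g t) : False := by
  rcases IsSimpleGroup.eq_bot_or_eq_top_of_normal (center G) inferInstance with e | e
  · have := mem_center_iff.2 (fun g => (hc g).eq)
    rw [e, mem_bot] at this
    exact ht this
  · exact hna ⟨⟨fun a b => (mem_center_iff.1 (e ▸ mem_top a) b).symm⟩⟩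

theorem exists_conj_mem (S : Sylow 2 G) {v : G} (hv : orderOf v = 2) : ∃ g : G, g * v * g⁻¹ ∈ (S : Subgroup G) := by
  haveI := Fact.mk Nat.prime_two
  have hp : IsPGroup 2 ↥(zpowers v) := IsPGroup.of_card (n := 1) (by rw [Nat.card_zpowers, hv, pow_one])
  obtain ⟨a, ha⟩ := Cfsg.Lib.InvolCalc.exists_conj_le S hp
  refine ⟨a⁻¹, ?_⟩
  have := ha v (mem_zpowers v)
  simpa using this

/-- An involution of an abelian Sylow 2-subgroup fixed by its normaliser cannot occur. -/
theorem no_fixed [IsSimpleGroup G] (hna : ¬ IsMulCommutative G) (S : Sylow 2 G)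
    (hab : ∀ a ∈ (S : Subgroup G), ∀ b ∈ (S : Subgroup G), Commute a b) {z : G} (hz : orderOf z = 2)
    (hzS : z ∈ (S : Subgroup G)) (hfix : ∀ n ∈ normalizer ((S : Subgroup G) : Set G), Commute n z) : False := by
  haveI := Fact.mk Nat.prime_two
  have hiso : ∀ g : G, g * z * g⁻¹ ∈ (S : Subgroup G) → g * z * g⁻¹ = z := by
    intro g hg
    have hn : ∀ x ∈ (S : Subgroup G), (S : Subgroup G) ≤ normalizer ({x} : Set G) := by
      intro x hx s hs
      rw [mem_set_normalizer_iff]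
      intro y
      simp only [Set.mem_singleton_iff]
      constructor
      · rintro rfl; rw [(hab s hs y hx).eq, mul_inv_cancel_right]
      · intro e
        have e' : y = s⁻¹ * x * s := by rw [← e]; group
        rw [e', mul_assoc, (hab x hx s hs).eq, inv_mul_cancel_left]
    obtain ⟨n, hn', he⟩ := Cfsg.Lib.Transfer.burnside_fusion_set S {z} {g * z * g⁻¹} (hn z hzS) (hn _ hg) g
      (by simp)
    simp only [Set.image_singleton, Set.singleton_eq_singleton_iff] at he
    rw [← he, (hfix n hn').eq, mul_inv_cancel_right]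
  have hisol : Cfsg.IsIsolatedInvolution z :=
    ⟨hz, fun g hg => Cfsg.Lib.InvolCalc.isolated_of_unique S hz hiso hg⟩
  have hO : Cfsg.pPrimeCore 2 G = ⊥ := by
    have hodd : Odd (Nat.card (Cfsg.pPrimeCore 2 G)) := Cfsg.Lib.ZStarApps.odd_card_pPrimeCore
    rcases IsSimpleGroup.eq_bot_or_eq_top_of_normal (Cfsg.pPrimeCore 2 G)
      (Cfsg.Lib.Components.pPrimeCore_normal' 2) with e | e
    · exact e
    · rw [e, card_top] at hodd
      exact absurd (even_iff_two_dvd.2 (hz ▸ orderOf_dvd_natCard z)) (Nat.not_even_iff_odd.2 hodd)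
  refine not_central hna (ne_one_of_two hz) fun g => ?_
  have := Cfsg.Lib.ZStarApps.zstarProp hisol g
  rw [hO, mem_bot] at this
  exact (mul_inv_eq_iff_eq_mul.1 (mul_inv_eq_one.1 this)).symm

variable (h : CycNorm G)
include h

/-- The rule for the elements of the abelian subgroup `W × ⟨a⟩`. -/
theorem rule_prod {t w b a : G} {n : ℕ} (ht : orderOf t = 2) (ha : t = root a) (han : a ^ 2 ^ n = 1)
    (hw : w ∈ oddCent h ht) (hb : b ∈ zpowers a) (hcomm : Commute w a) (h1 : w * b ≠ 1) (g : G) :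
    g * (w * b) * g⁻¹ ∈ zpowers (w * b) ↔ Commute g t := by
  rcases eq_or_ne b 1 with rfl | hb1
  · rw [mul_one] at h1 ⊢
    exact odd_rule h ht hw.1 hw.2 h1 g
  have hwb : Commute w b := commute_of_mem hb hcomm
  have hpow : ∀ {i : ℤ}, (a ^ i) ^ 2 ^ n = 1 := fun {i} => by
    rw [← zpow_natCast, ← zpow_mul, mul_comm, zpow_mul, zpow_natCast, han, one_zpow]
  have e : (w * b) ^ orderOf w = b ^ orderOf w := by rw [hwb.mul_pow, pow_orderOf_eq_one, one_mul]
  have hb' : b ^ orderOf w ≠ 1 := by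
    obtain ⟨i, rfl⟩ := hb
    intro e'
    exact hb1 (orderOf_eq_one_iff.1 (Nat.eq_one_of_dvd_coprimes (Nat.Coprime.pow_left n
      ((Nat.coprime_two_left).2 hw.2)) (orderOf_dvd_of_pow_eq_one hpow) (orderOf_dvd_of_pow_eq_one e')))
  have hmem : b ^ orderOf w ∈ zpowers a := pow_mem hb _
  have hpb : (b ^ orderOf w) ^ 2 ^ n = 1 := by
    obtain ⟨i, hi⟩ := hmem
    simp only at hi
    rw [← hi]; exact hpow
  have htk : t ∈ zpowers (w * b) := by
    rw [ha, ← root_eq_of_mem hmem (even_of_two_elt hpb hb'), ← e]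
    exact zpowers_le.2 (npow_mem_zpowers _ _) (root_mem _)
  exact h (w * b) t (w * b) ht htk (mem_zpowers _) h1 g

theorem mem_sup_iff {t a k : G} (ht : orderOf t = 2) (hat : Commute a t) :
    k ∈ oddCent h ht ⊔ zpowers a ↔ ∃ w ∈ oddCent h ht, ∃ b ∈ zpowers a, w * b = k := by
  rw [← SetLike.mem_coe, coe_mul_of_right_le_normalizer_left _ _
    (sylow_le_normalizer h ht (fun s hs => (commute_of_mem hs hat.symm).symm)), Set.mem_mul]
  simp

/-- The frame of the theorem of Brauer, Suzuki and Wall. -/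
theorem psl_of_frame [IsSimpleGroup G] (hna : ¬ IsMulCommutative G) {t a u : G} (ht : orderOf t = 2)
    (S : Sylow 2 G) (hS : ∀ s ∈ (S : Subgroup G), Commute s t) (haS : a ∈ (S : Subgroup G))
    (ha : t = root a) (hat : t ∈ zpowers a) (hWa : ∀ w ∈ oddCent h ht, Commute w a)
    (hu : orderOf u = 2) (huS : u ∈ (S : Subgroup G)) (hut : u ≠ t)
    (hinvW : ∀ w ∈ oddCent h ht, u * w * u⁻¹ = w⁻¹) (hinva : u * a * u⁻¹ = a⁻¹)
    (hgen : (S : Subgroup G) ≤ zpowers a ⊔ zpowers u)
    (huniq : ∀ v ∈ (S : Subgroup G), orderOf v = 2 → (∀ g, Commute g t → Commute g v) → v = t)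
    (hconj : ∀ v ∈ (S : Subgroup G), orderOf v = 2 → IsConj v t)
    (h12 : Nat.card G ≠ 12) : IsPSLTwo G := by
  obtain ⟨K, hK⟩ : ∃ K, K = oddCent h ht ⊔ zpowers a := ⟨_, rfl⟩
  obtain ⟨n, han⟩ := two_pow_eq_one S.isPGroup' haS
  have hmem : ∀ {k}, k ∈ K ↔ ∃ w ∈ oddCent h ht, ∃ b ∈ zpowers a, w * b = k := fun {k} =>
    hK ▸ mem_sup_iff h ht (hS a haS)
  have hab : ∀ x ∈ K, ∀ y ∈ K, x * y = y * x := by
    intro x hx y hy
    obtain ⟨w, hw, b, hb, rfl⟩ := hmem.1 hx
    obtain ⟨w', hw', b', hb', rfl⟩ := hmem.1 hy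
    exact Commute.mul_left ((show Commute w w' from oddCent_comm h ht hw hw').mul_right (commute_of_mem hb' (hWa w hw)))
      ((commute_of_mem hb (hWa w' hw')).symm.mul_right (commute_of_mem hb' (commute_of_mem hb (Commute.refl a)).symm))
  have hinv : ∀ x ∈ K, u * x * u⁻¹ = x⁻¹ := by
    intro x hx
    have hba := hab x hx
    obtain ⟨w, hw, b, hb, rfl⟩ := hmem.1 hx
    obtain ⟨i, rfl⟩ := hb
    show u * (w * a ^ i) * u⁻¹ = (w * a ^ i)⁻¹
    rw [((hWa w hw).zpow_right i).eq, mul_inv_rev, ← inv_zpow, ← hinva, conj_zpow, ← hinvW w hw,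
      show u * (a ^ i * w) * u⁻¹ = u * a ^ i * u⁻¹ * (u * w * u⁻¹) by group]
    have := ((hWa w hw).zpow_right i).symm
    rw [show u * a ^ i * u⁻¹ * (u * w * u⁻¹) = u * (a ^ i * w) * u⁻¹ by group, this.eq]
    group
  have hsq : ∀ x ∈ K, x * x = 1 → x = 1 ∨ x = t := by
    intro x hx hxx
    obtain ⟨w, hw, b, hb, rfl⟩ := hmem.1 hx
    rw [(commute_of_mem hb (hWa w hw)).symm.mul_mul_mul_comm] at hxx
    have hwS : w * w ∈ (S : Subgroup G) := by
      rw [eq_inv_of_mul_eq_one_left hxx]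
      exact inv_mem (mul_mem (zpowers_le.2 haS hb) (zpowers_le.2 haS hb))
    have hw1 : w * w = 1 := oddCent_inf h ht S.isPGroup' (mul_mem hw hw) hwS
    have hw1' : w = 1 := orderOf_eq_one_iff.1 (Nat.eq_one_of_dvd_coprimes ((Nat.coprime_two_left).2 hw.2)
      (orderOf_dvd_of_pow_eq_one (by rw [pow_two, hw1])) dvd_rfl)
    subst hw1'
    rw [one_mul] at hxx ⊢
    rcases eq_or_ne b 1 with e | e
    · exact Or.inl e
    · exact Or.inr ((eq_root hb (orderOf_eq_prime (by rw [pow_two]; simpa using hxx) e)).trans ha.symm)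
  have htK : t ∈ K := hK ▸ mem_sup_right hat
  have huK : u ∉ K := fun e => (hsq u e (sq_of_two hu)).elim (ne_one_of_two hu) hut
  have hW : oddCent h ht ≤ K := hK ▸ le_sup_left
  have hH : K ⊔ zpowers u = centralizer ({t} : Set G) := by
    refine le_antisymm (sup_le ?_ (zpowers_le.2 (mem_centralizer_singleton_iff.2 (hS u huS)))) ?_
    · rw [hK]
      exact sup_le (fun y hy => mem_centralizer_singleton_iff.2 hy.1)
        (zpowers_le.2 (mem_centralizer_singleton_iff.2 (hS a haS)))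
    · rw [← centralizer_eq h ht S hS, hK, sup_assoc]
      exact sup_le_sup_left hgen _
  have hCK : K ⊓ centralizer ({u} : Set G) = zpowers t := by
    refine le_antisymm (fun x hx => ?_) (zpowers_le.2 ⟨htK, mem_centralizer_singleton_iff.2 (hS u huS).symm⟩)
    have e := hinv x hx.1
    rw [← (mem_centralizer_singleton_iff.1 hx.2 : x * u = u * x), mul_inv_cancel_right] at e
    rcases hsq x hx.1 (by nth_rewrite 2 [e]; exact mul_inv_cancel x) with rfl | rfl
    · exact one_mem _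
    · exact mem_zpowers _
  have hrule : ∀ k ∈ K, k ≠ 1 → ∀ g, (g * k * g⁻¹ ∈ zpowers k ↔ Commute g t) := by
    intro k hk hk1 g
    obtain ⟨w, hw, b, hb, rfl⟩ := hmem.1 hk
    exact rule_prod h ht ha han hw hb (hWa w hw) hk1 g
  have hTI : ∀ g : G, g ∉ centralizer ({t} : Set G) → K ⊓ K.map (MulAut.conj g).toMonoidHom = ⊥ := by
    intro g hg
    rw [eq_bot_iff]
    rintro x ⟨hx, hxm⟩
    obtain ⟨k, hk, rfl⟩ := hxm
    rw [mem_bot]
    by_contra h1
    simp only [MulEquiv.coe_toMonoidHom, MulAut.conj_apply] at hx h1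
    have hk1 : k ≠ 1 := fun e => h1 (by rw [e]; simp)
    have hcent : ∀ c, Commute c t → Commute c (g * t * g⁻¹) := by
      intro c hc
      obtain ⟨i, hi⟩ := (hrule _ hx h1 c).2 hc
      have h2 : g⁻¹ * c * g * k * (g⁻¹ * c * g)⁻¹ ∈ zpowers k := by
        refine ⟨i, ?_⟩
        simp only [conj_zpow] at hi
        calc k ^ i = g⁻¹ * (g * k ^ i * g⁻¹) * g := by group
          _ = _ := by rw [hi]; group
      have h3 := ((hrule k hk hk1 _).1 h2).eq
      show c * (g * t * g⁻¹) = g * t * g⁻¹ * c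
      calc c * (g * t * g⁻¹) = g * (g⁻¹ * c * g * t) * g⁻¹ := by group
        _ = g * (t * (g⁻¹ * c * g)) * g⁻¹ := by rw [h3]
        _ = _ := by group
    have ho : orderOf (g * t * g⁻¹) = 2 := by rw [orderOf_conj]; exact ht
    have hgS := mem_sylow_of_central h ho S hS hcent
    have e := huniq _ hgS ho hcent
    exact hg (mem_centralizer_singleton_iff.2 (mul_inv_eq_iff_eq_mul.1 e))
  have hall : ∀ v : G, orderOf v = 2 → IsConj v t := by
    intro v hv
    obtain ⟨g, hg⟩ := exists_conj_mem S hv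
    exact (isConj_iff.2 ⟨g, rfl⟩).trans (hconj _ hg (by rw [orderOf_conj]; exact hv))
  have D : Cfsg.Lib.BSW.Data t u K := ⟨ht, hu, hab, htK, huK, mem_centralizer_singleton_iff.2 (hS u huS), hH, hCK,
    hinv, hTI, fun x y hx hy => (hall x hx).trans (hall y hy).symm⟩
  obtain ⟨δ, q, r, R⟩ := Cfsg.Lib.BSW.exists_res_of_data D
  obtain ⟨Q, D', hcard, hC, -, hD, hQD, hN, hX⟩ := Cfsg.Lib.BSW.concl R
  have hD1 : D' ≠ ⊥ := fun e => h12 (by
    rw [e, card_bot] at hD
    rw [← hD] at hcard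
    omega)
  obtain ⟨F, i1, i2, hF, hiso⟩ := Cfsg.Lib.PSLOrderSpec.psl_of_concl Q D' hcard hC hD hD1 hQD hN hX
  refine ⟨F, i1, i2, ?_, hiso⟩
  have h2D : 2 ≤ Nat.card D' := by
    haveI : Nontrivial D' := (nontrivial_iff_ne_bot D').2 hD1
    exact Finite.one_lt_card
  omega

end Cfsg.Lib.CyclicNorm
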