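import Mathlib

/-!
A transfer lemma of Thompson's kind: the sign of an involution on the cosets of a subgroup of index two
in a Sylow 2-subgroup.
-/

set_option autoImplicit false

namespace Cfsg.Lib.CyclicNorm

open Subgroup

universe u

variable {G : Type u} [Group G] [Finite G]

/-- If each conjugate of `u` lying in `M` is taken there by elements that take the commuting `r` out of
`S`, then `G` has a subgroup of index two. -/
theorem exists_index_two_of_commuting {u r : G} (S : Sylow 2 G) (M : Subgroup G) (hMS : M ≤ (S : Subgroup G))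
    (hM2 : M.relIndex (S : Subgroup G) = 2) (hu : orderOf u = 2) (huS : u ∈ (S : Subgroup G)) (huM : u ∉ M)
    (hru : Commute r u) (hr : r ∈ (S : Subgroup G))
    (hnf : ∀ g : G, g⁻¹ * u * g ∈ M → g⁻¹ * r * g ∉ (S : Subgroup G)) :
    ∃ N : Subgroup G, N.Normal ∧ N.index = 2 ∧ u ∉ N := by
  classical
  haveI := Fact.mk Nat.prime_two
  haveI := Fintype.ofFinite (G ⧸ M)
  haveI := Fintype.ofFinite (G ⧸ (S : Subgroup G))
  have hiff : ∀ {a b : G}, a ∈ (S : Subgroup G) → b ∈ (S : Subgroup G) → (a * b ∈ M ↔ (a ∈ M ↔ b ∈ M)) := by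
    intro a b ha hb
    exact Subgroup.mul_mem_iff_of_index_two (H := M.subgroupOf (S : Subgroup G)) hM2 (a := ⟨a, ha⟩) (b := ⟨b, hb⟩)
  have hMn : ∀ s ∈ (S : Subgroup G), ∀ m ∈ M, s⁻¹ * m * s ∈ M := by
    intro s hs m hm
    rw [hiff (mul_mem (inv_mem hs) (hMS hm)) hs, hiff (inv_mem hs) (hMS hm), inv_mem_iff]
    tauto
  -- cosets of `S` fixed by `u` through `M`
  have hinv : ∀ g : G, ∀ s ∈ (S : Subgroup G), (g⁻¹ * u * g ∈ M ↔ (g * s)⁻¹ * u * (g * s) ∈ M) := by
    intro g s hs
    constructor <;> intro e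
    · convert hMn s hs _ e using 1; group
    · convert hMn s⁻¹ (inv_mem hs) _ e using 1; group
  let B : SubMulAction (zpowers r) (G ⧸ (S : Subgroup G)) :=
    { carrier := {x | ∀ g : G, (g : G ⧸ (S : Subgroup G)) = x → g⁻¹ * u * g ∈ M}
      smul_mem' := by
        rintro ⟨c, hc⟩ x hx g hg
        have hcu : Commute c u := by obtain ⟨i, rfl⟩ := hc; exact hru.zpow_left i
        have h1 : ((c⁻¹ * g : G) : G ⧸ (S : Subgroup G)) = x := by
          show c⁻¹ • (g : G ⧸ (S : Subgroup G)) = x
          rw [hg]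
          exact inv_smul_smul c x
        convert hx _ h1 using 1
        calc g⁻¹ * u * g = g⁻¹ * (u * (c * c⁻¹)) * g := by group
          _ = g⁻¹ * (u * c * c⁻¹) * g := by group
          _ = g⁻¹ * (c * u * c⁻¹) * g := by rw [hcu.eq]
          _ = _ := by group }
  have hB : ∀ g : G, g⁻¹ * u * g ∈ M → (g : G ⧸ (S : Subgroup G)) ∈ B := by
    intro g hg g' hg'
    have h1 := QuotientGroup.eq.1 hg'.symm
    have h2 := (hinv g _ h1).1 hg
    rwa [mul_inv_cancel_left] at h2
  have hBeven : 2 ∣ Nat.card B := by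
    have hp : IsPGroup 2 ↥(zpowers r) := S.isPGroup'.to_le (zpowers_le.2 hr)
    have h0 : Nat.card (MulAction.fixedPoints (zpowers r) B) = 0 := by
      haveI : IsEmpty (MulAction.fixedPoints (zpowers r) B) := ⟨fun ⟨⟨x, hx⟩, hf⟩ => by
        obtain ⟨g, rfl⟩ := QuotientGroup.mk_surjective x
        have h1 := congrArg Subtype.val (hf ⟨r, mem_zpowers r⟩)
        have h2 : ((r * g : G) : G ⧸ (S : Subgroup G)) = g := h1
        have h3 := QuotientGroup.eq.1 h2.symm
        exact hnf g (hx g rfl) (by rwa [← mul_assoc] at h3)⟩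
      exact Nat.card_of_isEmpty
    exact Nat.modEq_zero_iff_dvd.1 (h0 ▸ hp.card_modEq_card_fixedPoints B)
  -- the fixed cosets of `M`
  set σ : Equiv.Perm (G ⧸ M) := MulAction.toPermHom G (G ⧸ M) u with hσ
  have hfixiff : ∀ g : G, σ (g : G ⧸ M) = (g : G ⧸ M) ↔ g⁻¹ * u * g ∈ M := fun g => by
    show ((u * g : G) : G ⧸ M) = g ↔ _
    rw [eq_comm, QuotientGroup.eq, mul_assoc]
  have hu2 : u * u = 1 := by rw [← pow_two, ← hu, pow_orderOf_eq_one]
  let f : B × Bool → {x : G ⧸ M // σ x = x} := fun p =>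
    ⟨((p.1.1.out * cond p.2 u 1 : G) : G ⧸ M), (hfixiff _).2 ((hinv _ _ (by
      cases p.2 <;> simp [huS])).1 (p.1.2 _ (QuotientGroup.out_eq' _)))⟩
  have hf : Function.Bijective f := by
    constructor
    · rintro ⟨x, a⟩ ⟨y, b⟩ e
      have e' := QuotientGroup.eq.1 (congrArg Subtype.val e)
      have hxy : x = y := by
        apply Subtype.ext
        rw [← QuotientGroup.out_eq' x.1, ← QuotientGroup.out_eq' y.1, QuotientGroup.eq]
        have hb : ∀ b : Bool, cond b u 1 ∈ (S : Subgroup G) := by intro b; cases b <;> simp [huS]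
        have := mul_mem (mul_mem (hb a) (hMS e')) (inv_mem (hb b))
        convert this using 1
        simp only
        group
      subst hxy
      simp only [Prod.mk.injEq, true_and]
      rcases a <;> rcases b <;> simp [mul_assoc] at e' ⊢
      · exact huM e'
      · exact huM e'
    · rintro ⟨x, hx⟩
      obtain ⟨g, rfl⟩ := QuotientGroup.mk_surjective x
      have hg := hB g ((hfixiff g).1 hx)
      obtain ⟨⟨s, hs⟩, e⟩ := QuotientGroup.mk_out_eq_mul (S : Subgroup G) g
      by_cases hsM : s ∈ M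
      · refine ⟨(⟨_, hg⟩, false), Subtype.ext (QuotientGroup.eq.2 ?_)⟩
        simp only [cond_false, mul_one]
        rw [e, mul_inv_rev, mul_assoc, inv_mul_cancel, mul_one]
        exact inv_mem hsM
      · refine ⟨(⟨_, hg⟩, true), Subtype.ext (QuotientGroup.eq.2 ?_)⟩
        simp only [cond_true]
        rw [e, mul_inv_rev, mul_inv_rev, mul_assoc, mul_assoc, inv_mul_cancel, mul_one,
          hiff (inv_mem huS) (inv_mem hs), inv_mem_iff, inv_mem_iff]
        tauto
  have hcardFix : Nat.card {x : G ⧸ M // σ x = x} = 2 * Nat.card B := by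
    rw [← Nat.card_eq_of_bijective f hf, Nat.card_prod, Nat.card_eq_fintype_card (α := Bool), Fintype.card_bool,
      mul_comm]
  have hindex : M.index = 2 * (S : Subgroup G).index := by
    rw [← relIndex_mul_index hMS, hM2]
  have hodd : Odd (S : Subgroup G).index := by
    rw [← Nat.not_even_iff_odd, even_iff_two_dvd]; exact S.not_dvd_index
  have hsupp : σ.support.card + Nat.card {x : G ⧸ M // σ x = x} = M.index := by
    rw [Nat.card_eq_fintype_card, Fintype.card_subtype, M.index_eq_card, Nat.card_eq_fintype_card,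
      ← Finset.card_univ, ← Finset.card_filter_add_card_filter_not (s := Finset.univ) (fun x => σ x ≠ x)]
    simp [Equiv.Perm.support]
  have hne : σ ≠ 1 := by
    intro e
    rw [e, Equiv.Perm.support_one, Finset.card_empty, zero_add, hindex] at hsupp
    obtain ⟨j, hj⟩ := hBeven
    obtain ⟨i, hi⟩ := hodd
    rw [← e, hcardFix] at hsupp
    omega
  have hord : orderOf σ = 2 := orderOf_eq_prime
    (by rw [hσ, ← map_pow, pow_two, hu2, map_one]) hne
  obtain ⟨k, hk⟩ := Equiv.Perm.cycleType_prime_order (hord.symm ▸ Nat.prime_two)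
  have hsum := σ.sum_cycleType
  rw [hk, Multiset.sum_replicate, smul_eq_mul, hord] at hsum
  have hkodd : Odd (k + 1) := by
    obtain ⟨j, hj⟩ := hBeven
    obtain ⟨i, hi⟩ := hodd
    rw [hcardFix, hindex] at hsupp
    rw [Nat.odd_iff]
    omega
  let ε : G →* ℤˣ := Equiv.Perm.sign.comp (MulAction.toPermHom G (G ⧸ M))
  have hsign : ε u = -1 := by
    show Equiv.Perm.sign σ = -1
    rw [Equiv.Perm.sign_of_cycleType, hk, Multiset.sum_replicate, Multiset.card_replicate, hord, smul_eq_mul]
    exact Odd.neg_one_pow ((Even.mul_left even_two (k + 1)).add_odd hkodd)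
  refine ⟨ε.ker, inferInstance, ?_, ?_⟩
  · rw [Subgroup.index_ker]
    have htop : ε.range = ⊤ := by
      rw [eq_top_iff]
      intro z _
      rcases Int.units_eq_one_or z with rfl | rfl
      · exact one_mem _
      · exact ⟨u, hsign⟩
    rw [htop, Nat.card_congr Subgroup.topEquiv.toEquiv, Nat.card_eq_fintype_card, Fintype.card_units_int]
  · rw [MonoidHom.mem_ker, hsign]
    decide

end Cfsg.Lib.CyclicNorm
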