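import Cfsg.Agent.InvolCalc.CyclicNormalisers.Common
import Cfsg.Agent.InvolCalc.CyclicNormalisers.Transfer
import Cfsg.Agent.S0111
import Cfsg.Agent.S0204

/-!
A nonabelian Sylow 2-subgroup all of whose cyclic subgroups of order at least four share their involution
is dihedral.
-/

set_option autoImplicit false
set_option linter.unusedSectionVars false

namespace Cfsg.Lib.CyclicNorm

open Subgroup

universe u

variable {G : Type u} [Group G] [Finite G]

theorem pow_gcd_mem (b : G) (l : ℕ) : b ^ Nat.gcd l (orderOf b) ∈ zpowers (b ^ l) := by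
  refine ⟨Nat.gcdA l (orderOf b), ?_⟩
  show (b ^ l) ^ Nat.gcdA l (orderOf b) = b ^ Nat.gcd l (orderOf b)
  rw [← zpow_natCast b l, ← zpow_mul, ← zpow_natCast b (Nat.gcd _ _), Nat.gcd_eq_gcd_ab, zpow_add,
    zpow_mul b (orderOf b : ℤ), zpow_natCast b (orderOf b), pow_orderOf_eq_one, one_zpow, mul_one]

/-- The element of order four of a cyclic 2-group lies in each cyclic subgroup of order at least four. -/
theorem quarter_mem_of_sq {a r : G} {n : ℕ} (ha : orderOf a = 2 ^ n) (hr : r ∈ zpowers a) (h2 : r * r ≠ 1) :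
    quarter a ∈ zpowers r := by
  classical
  rw [mem_zpowers_iff_mem_range_orderOf, Finset.mem_image] at hr
  obtain ⟨l, -, rfl⟩ := hr
  have hg := Nat.gcd_dvd_right l (orderOf a)
  rw [ha] at hg
  obtain ⟨v, hv, hgv⟩ := (Nat.dvd_prime_pow Nat.prime_two).1 hg
  have hd : 2 ^ v ∣ l := hgv ▸ Nat.gcd_dvd_left _ _
  have hv2 : v + 2 ≤ n := by
    by_contra hlt
    apply h2
    rw [← pow_add, ← two_mul]
    obtain ⟨l', rfl⟩ := hd
    refine orderOf_dvd_iff_pow_eq_one.1 (ha ▸ (dvd_trans ?_ (Dvd.intro l' (show (2 : ℕ) ^ (v + 1) * l' = 2 * (2 ^ v * l') by ring))))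
    exact pow_dvd_pow 2 (by omega)
  have h1 := pow_gcd_mem a l
  rw [ha, hgv] at h1
  have h2' : a ^ 2 ^ v ∈ zpowers (a ^ l) := h1
  rw [quarter, ha, show (2 : ℕ) ^ n / 4 = 2 ^ v * 2 ^ (n - 2 - v) by
    rw [← pow_add, show (4 : ℕ) = 2 ^ 2 from rfl, Nat.pow_div (by omega) two_pos]
    congr 1
    omega, pow_mul]
  exact pow_mem h2' _

theorem mul_pow_twist {b d e : G} (hde : d * b = b * d * e) (heb : Commute e b) (hed : Commute e d) (N : ℕ) :
    d ^ N * b = b * d ^ N * e ^ N ∧ (b * d) ^ N = b ^ N * d ^ N * e ^ (N.choose 2) := by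
  induction N with
  | zero => simp
  | succ N ih =>
    obtain ⟨ih1, ih2⟩ := ih
    have h1 : d ^ (N + 1) * b = b * d ^ (N + 1) * e ^ (N + 1) := by
      rw [pow_succ d, mul_assoc, hde, ← mul_assoc, ← mul_assoc, ih1, mul_assoc (b * d ^ N), (hed.pow_left N).eq,
        pow_succ e]
      simp [mul_assoc]
    refine ⟨h1, ?_⟩
    rw [pow_succ, ih2, mul_assoc (b ^ N * d ^ N), ((heb.mul_right hed).pow_left _).eq, ← mul_assoc,
      ← mul_assoc, mul_assoc (b ^ N), ih1]
    rw [Nat.choose_succ_succ', Nat.choose_one_right, pow_add e, ← mul_assoc, ← mul_assoc, ← pow_succ,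
      mul_assoc (b ^ (N + 1) * d ^ N), (hed.pow_left N).eq, ← mul_assoc, mul_assoc (b ^ (N + 1)), ← pow_succ,
      mul_assoc _ (e ^ N)]

theorem conj_mem_of_sq {M : Subgroup G} {s m : G} (h1 : s * s ∈ M) (h2 : s⁻¹ * m * (s⁻¹ * m) ∈ M) (hm : m ∈ M) :
    s * m * s⁻¹ ∈ M := by
  rw [show s * m * s⁻¹ = s * s * (s⁻¹ * m * (s⁻¹ * m)) * m⁻¹ by group]
  exact mul_mem (mul_mem h1 h2) (inv_mem hm)

variable (h : CycNorm G)
include h

theorem squares_mem {S : Sylow 2 G} {z a : G}
    (hz : ∀ x ∈ (S : Subgroup G), 4 ∣ orderOf x → root x = z) (haS : a ∈ (S : Subgroup G))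
    (ha4 : 4 ∣ orderOf a) (hmax : ∀ x ∈ (S : Subgroup G), orderOf x ≤ orderOf a) :
    ∀ b ∈ (S : Subgroup G), b * b ∈ zpowers (a * a) := by
  classical
  have hP := S.isPGroup'
  obtain ⟨n₀, hn₀⟩ := two_pow_eq_one hP haS
  obtain ⟨n, -, hn⟩ := (Nat.dvd_prime_pow Nat.prime_two).1 (orderOf_dvd_of_pow_eq_one hn₀)
  intro b
  induction hN : orderOf b using Nat.strong_induction_on generalizing b with
  | _ N ih =>
  subst hN
  intro hbS
  have haa : a * a ≠ 1 := fun e => by
    have h1 := orderOf_dvd_of_pow_eq_one (show a ^ 2 = 1 by rw [pow_two, e])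
    have := Nat.le_of_dvd two_pos h1
    have := Nat.le_of_dvd (orderOf_pos a) ha4
    omega
  by_cases hb2 : b * b = 1
  · rw [hb2]; exact one_mem _
  have hb4 := four_dvd_of hP hbS hb2
  obtain ⟨m₀, hm₀⟩ := two_pow_eq_one hP hbS
  obtain ⟨m, -, hm⟩ := (Nat.dvd_prime_pow Nat.prime_two).1 (orderOf_dvd_of_pow_eq_one hm₀)
  have hm2 : 2 ≤ m := by
    by_contra hlt
    have := Nat.le_of_dvd (orderOf_pos b) hb4
    have : 2 ^ m ≤ 2 ^ 1 := Nat.pow_le_pow_right two_pos (by omega)
    omega
  have hmn : m ≤ n := by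
    have := hmax b hbS
    rw [hm, hn] at this
    exact (Nat.pow_le_pow_iff_right (by norm_num)).1 this
  have hza : z ∈ zpowers (a * a) := by
    obtain ⟨l, hl⟩ := two_pow_eq_one hP (mul_mem haS haS)
    rw [← hz a haS ha4, ← root_eq_of_mem (mul_mem (mem_zpowers a) (mem_zpowers a)) (even_of_two_elt hl haa)]
    exact root_mem _
  have hsqa : zpowers (a * a) ≤ zpowers a := zpowers_le.2 (mul_mem (mem_zpowers a) (mem_zpowers a))
  have hin : b * b ∈ zpowers a → b * b ∈ zpowers (a * a) := by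
    rintro ⟨i, hi⟩
    change a ^ i = b * b at hi
    rcases Int.even_or_odd' i with ⟨j, rfl | rfl⟩
    · refine ⟨j, ?_⟩
      show (a * a) ^ j = b * b
      rw [← hi, zpow_mul, zpow_two]
    · exfalso
      have h1 : a ∈ zpowers (b * b) := by
        have h2 : (a ^ (2 * j + 1)) ^ ((orderOf a / 2 : ℕ) : ℤ) = root a := by
          rw [← zpow_mul, add_mul, one_mul, zpow_add, mul_comm 2 j, mul_assoc, mul_comm j, zpow_mul, root]
          have : (2 : ℤ) * ((orderOf a / 2 : ℕ) : ℤ) = (orderOf a : ℤ) := by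
            have h4 : 2 ∣ orderOf a := dvd_trans (by decide) ha4
            exact_mod_cast Nat.mul_div_cancel' h4
          rw [this, zpow_natCast, pow_orderOf_eq_one, one_zpow, one_mul, zpow_natCast]
        obtain ⟨l, hl⟩ : ∃ l : ℕ, a ^ (2 * j + 1) = a ^ l := by
          have := (mem_zpowers_iff_mem_range_orderOf (x := a)).1 (zpow_mem_zpowers a (2 * j + 1))
          simp only [Finset.mem_image] at this
          obtain ⟨l, -, hl⟩ := this
          exact ⟨l, hl.symm⟩
        have h3 := pow_gcd_mem a l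
        rw [← hl, hi, hn] at h3
        obtain ⟨v, -, hv⟩ := (Nat.dvd_prime_pow Nat.prime_two).1 (Nat.gcd_dvd_right l (2 ^ n))
        rw [hv] at h3
        rcases v with _ | v
        · simpa using h3
        · exfalso
          obtain ⟨l', hl'⟩ : 2 ∣ l := (dvd_pow_self 2 (Nat.succ_ne_zero v)).trans (hv ▸ Nat.gcd_dvd_left _ _)
          have h5 : a ^ (2 * j + 1) * (a ^ (l : ℤ))⁻¹ = 1 := by rw [zpow_natCast, ← hl, mul_inv_cancel]
          rw [← zpow_neg, ← zpow_add] at h5
          have h6 := orderOf_dvd_iff_zpow_eq_one.2 h5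
          have h7 : (2 : ℤ) ∣ 2 * j + 1 + -(l : ℤ) :=
            (Int.natCast_dvd_natCast.2 (dvd_trans (by decide) ha4)).trans h6
          rw [hl'] at h7
          push_cast at h7
          omega
      have h8 := Nat.le_of_dvd (orderOf_pos _) (orderOf_dvd_of_mem_zpowers h1)
      rw [← pow_two, orderOf_pow_of_dvd (by norm_num) (dvd_trans (by decide) hb4)] at h8
      have := hmax b hbS
      have := Nat.le_of_dvd (orderOf_pos a) ha4
      omega
  by_contra hnot
  have hba : b * b ∉ zpowers a := fun e => hnot (hin e)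
  -- the least power of `b` in `⟨a⟩`
  have hroot : b ^ 2 ^ (m - 1) ∈ zpowers a := by
    have : b ^ 2 ^ (m - 1) = root b := by
      rw [root, hm, show 2 ^ (m - 1) = 2 ^ m / 2 by
        rw [show m = m - 1 + 1 by omega, pow_succ, Nat.mul_div_cancel _ two_pos, Nat.add_sub_cancel]]
    rw [this, hz b hbS hb4, ← hz a haS ha4]
    exact root_mem a
  have hex : ∃ k : ℕ, b ^ 2 ^ k ∈ zpowers a := ⟨_, hroot⟩
  obtain ⟨k, hk⟩ : ∃ k, Nat.find hex = k := ⟨_, rfl⟩
  have hkm : k ≤ m - 1 := hk ▸ Nat.find_min' hex hroot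
  have hk2 : 2 ≤ k := by
    by_contra hlt
    have h1 := Nat.find_spec hex
    rw [hk] at h1
    rcases (by omega : k = 0 ∨ k = 1) with rfl | rfl
    · exact hba (mul_mem (by simpa using h1) (by simpa using h1))
    · exact hba (by simpa [pow_two] using h1)
  have hspec : b ^ 2 ^ k ∈ zpowers a := hk ▸ Nat.find_spec hex
  obtain ⟨j, hj⟩ := hspec
  change a ^ j = b ^ 2 ^ k at hj
  have hdvd : (2 : ℤ) ^ k ∣ j := by
    have h1 : a ^ (j * 2 ^ (m - k)) = 1 := by
      rw [zpow_mul, hj, show ((2 : ℤ) ^ (m - k)) = ((2 ^ (m - k) : ℕ) : ℤ) by push_cast; rfl, zpow_natCast,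
        ← pow_mul, ← pow_add, show k + (m - k) = m by omega, ← hm, pow_orderOf_eq_one]
    have h2 := orderOf_dvd_iff_zpow_eq_one.2 h1
    rw [hn, Nat.cast_pow, show n = (n - (m - k)) + (m - k) by omega, pow_add, Nat.cast_ofNat] at h2
    exact (pow_dvd_pow (2 : ℤ) (show k ≤ n - (m - k) by omega)).trans
      (Int.dvd_of_mul_dvd_mul_right (pow_ne_zero _ (by norm_num)) h2)
  obtain ⟨i, rfl⟩ := hdvd
  obtain ⟨d, hd⟩ : ∃ d, d = a ^ (-i) := ⟨_, rfl⟩
  have hda : d ∈ zpowers a := hd ▸ zpow_mem_zpowers a _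
  have hdS : d ∈ (S : Subgroup G) := (zpowers_le.2 haS) hda
  obtain ⟨e, he⟩ : ∃ e, e = d⁻¹ * b⁻¹ * d * b := ⟨_, rfl⟩
  have hde : d * b = b * d * e := by rw [he]; group
  have hea : e ∈ zpowers a := by
    rw [he, show d⁻¹ * b⁻¹ * d * b = d⁻¹ * (b⁻¹ * d * b⁻¹⁻¹) by group]
    refine mul_mem (inv_mem hda) ?_
    rw [hd, ← conj_zpow]
    exact zpow_mem (self_conj_mem h hP haS ha4 (inv_mem hbS)) _
  have heb : e ∈ zpowers b := by
    rw [he, show d⁻¹ * b⁻¹ * d * b = (d⁻¹ * b * d⁻¹⁻¹)⁻¹ * b by group]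
    exact mul_mem (inv_mem (self_conj_mem h hP hbS hb4 (inv_mem hdS))) (mem_zpowers b)
  have heb' : Commute e b := (commute_of_mem heb (Commute.refl b)).symm
  have hed : Commute e d := commute_of_mem hda (commute_of_mem hea (Commute.refl a)).symm
  have hkey : b ^ 2 ^ k * d ^ 2 ^ k = 1 := by
    rw [← hj, hd, ← zpow_natCast (a ^ (-i)) (2 ^ k), ← zpow_mul, ← zpow_add]
    convert zpow_zero a using 2
    push_cast
    ring
  have he2k : e ^ 2 ^ k = 1 := by
    have h1 := (mul_pow_twist (b := d) (d := b) (e := e⁻¹)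
      (by rw [mul_inv_eq_iff_eq_mul.2 (show d * b = b * d * e from hde) |>.symm]) hed.inv_left heb'.inv_left (2 ^ k)).1
    have h2 : Commute d (b ^ 2 ^ k) := by
      rw [← hj, hd]; exact (Commute.refl a).zpow_zpow _ _
    rw [← h2.eq, left_eq_mul, inv_pow, inv_eq_one] at h1
    exact h1
  obtain ⟨b', hb'⟩ : ∃ b', b' = b * d := ⟨_, rfl⟩
  have hpowb' : b' ^ 2 ^ k = (e ^ 2 ^ (k - 1)) ^ (2 ^ k - 1) := by
    rw [hb', (mul_pow_twist hde heb' hed (2 ^ k)).2, hkey, one_mul, ← pow_mul, Nat.choose_two_right]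
    congr 1
    obtain ⟨k', rfl⟩ : ∃ k', k = k' + 1 := ⟨k - 1, by omega⟩
    rw [Nat.add_sub_cancel, pow_succ, mul_comm (2 ^ k') 2, mul_assoc, Nat.mul_div_cancel_left _ two_pos]
  have hE : (e ^ 2 ^ (k - 1)) ^ 2 = 1 := by
    rw [← pow_mul, ← pow_succ, show k - 1 + 1 = k by omega, he2k]
  have hlt : orderOf b' < orderOf b := by
    rw [hm]
    rcases Nat.lt_or_ge (k + 1) m with hkm' | hkm'
    · have : b' ^ 2 ^ (k + 1) = 1 := by
        rw [pow_succ, pow_mul, hpowb', ← pow_mul, mul_comm, pow_mul, hE, one_pow]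
      exact lt_of_le_of_lt (Nat.le_of_dvd (by positivity) (orderOf_dvd_of_pow_eq_one this))
        (Nat.pow_lt_pow_right (by norm_num) hkm')
    · have hee : e * e = 1 := by
        by_contra hne
        have hq := quarter_mem_of_sq hm heb hne
        have h1 : b ^ 2 ^ (m - 2) ∈ zpowers a := by
          have h2 : quarter b = b ^ 2 ^ (m - 2) := by
            rw [quarter, hm, show (4 : ℕ) = 2 ^ 2 from rfl, Nat.pow_div hm2 two_pos]
          rw [← h2]
          exact (zpowers_le.2 hea) hq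
        have := hk ▸ Nat.find_min' hex h1
        omega
      have : b' ^ 2 ^ k = 1 := by
        rw [hpowb', show k - 1 = 1 + (k - 2) by omega, pow_add, pow_one, pow_mul, pow_two, hee, one_pow, one_pow]
      exact lt_of_le_of_lt (Nat.le_of_dvd (by positivity) (orderOf_dvd_of_pow_eq_one this))
        (Nat.pow_lt_pow_right (by norm_num) (by omega))
  have h1 := hsqa (ih _ hlt b' rfl (hb' ▸ mul_mem hbS hdS))
  apply hba
  have h2 : b' * b' = b * b * (d * d * e) := by
    rw [hb', show b * d * (b * d) = b * (d * b) * d by group, hde]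
    calc b * (b * d * e) * d = b * b * d * (e * d) := by group
      _ = b * b * d * (d * e) := by rw [hed.eq]
      _ = _ := by group
  rw [h2] at h1
  exact (mul_mem_cancel_right (mul_mem (mul_mem hda hda) hea)).1 h1

/-- A Sylow 2-subgroup with one involution among its roots. -/
theorem psl_of_one_root [IsSimpleGroup G] (hna : ¬ IsMulCommutative G) (S : Sylow 2 G)
    (hnab : ¬ ∀ x ∈ (S : Subgroup G), ∀ y ∈ (S : Subgroup G), Commute x y) {x₀ z : G}
    (hx₀ : x₀ ∈ (S : Subgroup G)) (h4 : 4 ∣ orderOf x₀)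
    (hroots : ∀ x ∈ (S : Subgroup G), 4 ∣ orderOf x → root x = z) : IsPSLTwo G := by
  classical
  haveI := Fintype.ofFinite G
  haveI := Fact.mk Nat.prime_two
  have hP := S.isPGroup'
  have hev : ∀ x : G, 4 ∣ orderOf x → Even (orderOf x) := fun x hx => even_iff_two_dvd.2 (dvd_trans (by decide) hx)
  obtain ⟨a, haS, hmax⟩ : ∃ a ∈ (S : Subgroup G), ∀ x ∈ (S : Subgroup G), orderOf x ≤ orderOf a := by
    obtain ⟨a, ha, hm⟩ := Finset.exists_max_image (Finset.univ.filter (fun x => x ∈ (S : Subgroup G))) orderOf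
      ⟨1, by simp⟩
    exact ⟨a, (Finset.mem_filter.1 ha).2, fun x hx => hm x (by simp [hx])⟩
  obtain ⟨n₀, hn₀⟩ := two_pow_eq_one hP haS
  obtain ⟨n, -, hn⟩ := (Nat.dvd_prime_pow Nat.prime_two).1 (orderOf_dvd_of_pow_eq_one hn₀)
  have ha4 : 4 ∣ orderOf a := by
    have h1 := (Nat.le_of_dvd (orderOf_pos _) h4).trans (hmax x₀ hx₀)
    rw [hn] at h1 ⊢
    have : 2 ≤ n := by
      by_contra hlt
      have : 2 ^ n ≤ 2 ^ 1 := Nat.pow_le_pow_right two_pos (by omega)
      omega
    exact pow_dvd_pow 2 this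
  have hza : z = root a := (hroots a haS ha4).symm
  have hz : orderOf z = 2 := hza ▸ root_order (hev a ha4)
  have hzS : ∀ s ∈ (S : Subgroup G), Commute s z := hza ▸ root_central h hP haS ha4
  have hsq := squares_mem h hroots haS ha4 hmax
  have haa : zpowers (a * a) ≤ zpowers a := zpowers_le.2 (mul_mem (mem_zpowers a) (mem_zpowers a))
  -- an involution commuting with an element of order four is `z`
  have hkey : ∀ e ∈ (S : Subgroup G), ∀ r ∈ (S : Subgroup G), orderOf e = 2 → orderOf r = 4 → Commute r e →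
      e = z := by
    intro e heS r hrS he hr hre
    by_contra hne
    obtain ⟨M, -, hM⟩ := (Set.toFinite {M : Subgroup G | zpowers (a * a) ≤ M ∧ M ≤ (S : Subgroup G) ∧ e ∉ M}).exists_le_maximal
      (show zpowers (a * a) ∈ _ from ⟨le_rfl, zpowers_le.2 (mul_mem haS haS),
        fun q => hne ((eq_root (haa q) he).trans hza.symm)⟩)
    obtain ⟨haM, hMS, heM⟩ := hM.prop
    have hsqM : ∀ b ∈ (S : Subgroup G), b * b ∈ M := fun b hb => haM (hsq b hb)
    have hMn : ∀ s ∈ (S : Subgroup G), ∀ m ∈ M, s * m * s⁻¹ ∈ M := fun s hs m hm =>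
      conj_mem_of_sq (hsqM s hs) (hsqM _ (mul_mem (inv_mem hs) (hMS hm))) hm
    have hidx : M.relIndex (S : Subgroup G) = 2 := by
      rw [relIndex, index_eq_two_iff]
      refine ⟨⟨e, heS⟩, fun b => ?_⟩
      simp only [mem_subgroupOf, Subgroup.coe_mul]
      by_cases hbM : (b : G) ∈ M
      · exact Or.inr ⟨hbM, fun q => heM ((mul_mem_cancel_left hbM).1 q)⟩
      refine Or.inl ⟨?_, hbM⟩
      have hbn : zpowers (b : G) ≤ normalizer (M : Set G) := zpowers_le.2 (mem_normalizer_iff.2 fun m =>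
        ⟨hMn b b.2 m, fun q => by simpa [mul_assoc] using hMn _ (inv_mem b.2) _ q⟩)
      have hsup : e ∈ M ⊔ zpowers (b : G) := by
        by_contra q
        exact hbM (hM.le_of_ge (show M ⊔ zpowers (b : G) ∈ _ from
          ⟨haM.trans le_sup_left, sup_le hMS (zpowers_le.2 b.2), q⟩) le_sup_left (mem_sup_right (mem_zpowers _)))
      rw [← SetLike.mem_coe, coe_mul_of_right_le_normalizer_left _ _ hbn] at hsup
      obtain ⟨m, hm, p, ⟨i, hi⟩, hmp⟩ := hsup
      change (b : G) ^ i = p at hi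
      subst hi
      rcases Int.even_or_odd' i with ⟨j, rfl | rfl⟩
      · exfalso
        refine heM (hmp ▸ mul_mem hm ?_)
        rw [zpow_mul, zpow_two]
        exact zpow_mem (hsqM b b.2) j
      · have hbb : ∀ j : ℤ, (b : G) ^ (2 * j) ∈ M := fun j => by
          rw [zpow_mul, zpow_two]; exact zpow_mem (hsqM b b.2) j
        rw [← hmp, show (b : G) * (m * (b : G) ^ (2 * j + 1)) = (b : G) * m * (b : G)⁻¹ * ((b : G) ^ (2 * (j + 1))) by
          rw [mul_add, mul_one, show (2 * j + 2) = 1 + (2 * j + 1) by ring, zpow_add _ 1, zpow_one]; group]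
        exact mul_mem (hMn b b.2 m hm) (hbb _)
    obtain ⟨N, hN, hN2, -⟩ := exists_index_two_of_commuting S M hMS hidx he heS heM hre hrS fun g hg hgr => by
      have hr' : orderOf (g⁻¹ * r * g) = 4 := by
        rw [show g⁻¹ * r * g = g⁻¹ * r * g⁻¹⁻¹ by group, orderOf_conj]; exact hr
      have e1 := hroots _ hgr (by rw [hr'])
      rw [show g⁻¹ * r * g = g⁻¹ * r * g⁻¹⁻¹ by group, root_conj, inv_inv, hroots r hrS (by rw [hr])] at e1
      have hgz : Commute g z := by
        show g * z = z * g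
        nth_rewrite 1 [← e1]
        group
      obtain ⟨w, hw, s, hs, rfl⟩ := decompose h hz S hzS hgz
      have hM' : w⁻¹ * e * w ∈ M := by
        have := hMn s hs _ hg
        convert this using 1
        group
      have h1 : w⁻¹ * (e * w * e⁻¹) = 1 := by
        refine oddCent_inf h hz hP (mul_mem (inv_mem hw) (oddCent_conj h hz (hzS e heS) hw)) ?_
        rw [show w⁻¹ * (e * w * e⁻¹) = w⁻¹ * e * w * e⁻¹ by group]
        exact mul_mem (hMS hM') (inv_mem heS)
      rw [inv_mul_eq_one, eq_mul_inv_iff_mul_eq] at h1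
      rw [mul_assoc, ← h1, inv_mul_cancel_left] at hM'
      exact heM hM'
    exact no_index_two hna hN hN2
  obtain ⟨q4, hq4⟩ : ∃ q4, q4 = quarter a := ⟨_, rfl⟩
  have hq4o : orderOf q4 = 4 := hq4 ▸ quarter_order ha4
  have hq4a : q4 ∈ zpowers a := hq4 ▸ quarter_mem a
  have hq4S : q4 ∈ (S : Subgroup G) := (zpowers_le.2 haS) hq4a
  have hq4z : q4 * q4 = z := by rw [sq_eq_root hq4o, hroots q4 hq4S (by rw [hq4o])]
  have hz_a : z ∈ zpowers a := hza ▸ root_mem a
  -- the centraliser of `q4` in `S`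
  have hC : ∀ s ∈ (S : Subgroup G), Commute s q4 → s ∈ zpowers a := by
    intro s hsS hsq4
    by_cases hs2 : s * s = 1
    · rcases eq_or_ne s 1 with rfl | hs1
      · exact one_mem _
      · exact hkey s hsS q4 hq4S (orderOf_eq_prime (by rw [pow_two, hs2]) hs1) hq4o hsq4.symm ▸ hz_a
    have hs4 := four_dvd_of hP hsS hs2
    obtain ⟨i, hi⟩ := hsq s hsS
    change (a * a) ^ i = s * s at hi
    obtain ⟨c, hc⟩ : ∃ c, c = a⁻¹ * (s * a * s⁻¹) := ⟨_, rfl⟩
    have hca : Commute c a := by
      have : c ∈ zpowers a := hc ▸ mul_mem (inv_mem (mem_zpowers a)) (self_conj_mem h hP haS ha4 hsS)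
      exact (commute_of_mem this (Commute.refl a)).symm
    have hcs : Commute c s := by
      have : c ∈ zpowers s := by
        rw [hc, show a⁻¹ * (s * a * s⁻¹) = (a⁻¹ * s * a⁻¹⁻¹) * s⁻¹ by group]
        exact mul_mem (self_conj_mem h hP hsS hs4 (inv_mem haS)) (inv_mem (mem_zpowers s))
      exact (commute_of_mem this (Commute.refl s)).symm
    have hsa : s * a * s⁻¹ = a * c := by rw [hc]; group
    have hcc : c * c = 1 := by
      have h1 : s * (s * a * s⁻¹) * s⁻¹ = a * c * c := by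
        rw [hsa, show s * (a * c) * s⁻¹ = s * a * s⁻¹ * (s * c * s⁻¹) by group, hsa, hcs.symm.eq,
          mul_inv_cancel_right]
      have h2 : s * (s * a * s⁻¹) * s⁻¹ = a := by
        rw [show s * (s * a * s⁻¹) * s⁻¹ = s * s * a * (s * s)⁻¹ by group, ← hi,
          ((((Commute.refl a).mul_left (Commute.refl a)).zpow_left i)).eq, mul_inv_cancel_right]
      rw [h2, mul_assoc] at h1
      exact left_eq_mul.1 h1
    obtain ⟨q, hq⟩ : ∃ q, q = s * a ^ (-i) := ⟨_, rfl⟩
    have hqq : q * q = c ^ (-i) := by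
      rw [hq, show s * a ^ (-i) * (s * a ^ (-i)) = s * a ^ (-i) * s⁻¹ * (s * s) * a ^ (-i) by group,
        ← conj_zpow, hsa, ← hi, hca.symm.mul_zpow, (Commute.refl a).mul_zpow,
        mul_assoc, ((hca.zpow_zpow (-i) i).mul_right (hca.zpow_zpow (-i) i)).mul_right (hca.zpow_zpow (-i) (-i)) |>.right_comm]
      group
    have hqS : q ∈ (S : Subgroup G) := hq ▸ mul_mem hsS (zpow_mem haS _)
    have hqq2 : (q * q) * (q * q) = 1 := by
      rw [hqq, ← (Commute.refl c).mul_zpow, hcc, one_zpow]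
    have hqc : Commute q q4 := hq ▸ hsq4.mul_left (commute_of_mem hq4a ((Commute.refl a).zpow_left _))
    have hmem : q ∈ zpowers a := by
      by_cases hq2 : q * q = 1
      · rcases eq_or_ne q 1 with rfl | hq1
        · exact one_mem _
        · exact hkey q hqS q4 hq4S (orderOf_eq_prime (by rw [pow_two, hq2]) hq1) hq4o hqc.symm ▸ hz_a
      have hqz : q * q = z := by
        have ho : orderOf q = 4 := orderOf_eq_prime_pow (p := 2) (n := 1) (by rw [pow_one, pow_two]; exact hq2)
          (by rw [show (2 : ℕ) ^ (1 + 1) = 2 * 2 from rfl, pow_mul, pow_two, pow_two, hqq2])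
        rw [sq_eq_root ho, hroots q hqS (by rw [ho])]
      have h1 : (q * q4) * (q * q4) = 1 := by
        rw [hqc.symm.mul_mul_mul_comm, hqz, hq4z, sq_of_two hz]
      have h2 : q * q4 ∈ zpowers a := by
        rcases eq_or_ne (q * q4) 1 with e | e
        · rw [e]; exact one_mem _
        · exact hkey _ (mul_mem hqS hq4S) q4 hq4S (orderOf_eq_prime (by rw [pow_two, h1]) e) hq4o
            (hqc.symm.mul_right (Commute.refl q4)) ▸ hz_a
      exact (mul_mem_cancel_right hq4a).1 h2
    rw [hq] at hmem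
    exact (mul_mem_cancel_right (zpow_mem_zpowers a _)).1 hmem
  have hinv4 : ∀ s ∈ (S : Subgroup G), s ∉ zpowers a → s * q4 * s⁻¹ = q4⁻¹ := fun s hs hsa =>
    (conj_eq_or_inv hq4o (self_conj_mem h hP hq4S (by rw [hq4o]) hs)).resolve_left
      (fun e => hsa (hC s hs (mul_inv_eq_iff_eq_mul.1 e)))
  -- the elements outside `⟨a⟩` are involutions
  have hout : ∀ s ∈ (S : Subgroup G), s ∉ zpowers a → s * s = 1 := by
    intro s hsS hsa
    by_contra hs2
    have hs4 := four_dvd_of hP hsS hs2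
    have hnc : ¬ Commute s q4 := fun e => hsa (hC s hsS e)
    have hso : orderOf s = 4 := by
      by_contra hso
      obtain ⟨l₀, hl₀⟩ := two_pow_eq_one hP hsS
      obtain ⟨l, -, hl⟩ := (Nat.dvd_prime_pow Nat.prime_two).1 (orderOf_dvd_of_pow_eq_one hl₀)
      have h8 : ∃ p, orderOf s / 4 = 2 * p := by
        rcases l with _ | _ | _ | l
        · rw [hl] at hs4; norm_num at hs4
        · rw [hl] at hs4; norm_num at hs4
        · exact absurd hl hso
        · exact ⟨2 ^ l, by rw [hl, show 2 ^ (l + 1 + 1 + 1) = 4 * (2 * 2 ^ l) by ring,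
            Nat.mul_div_cancel_left _ (by norm_num)]⟩
      obtain ⟨p, hp⟩ := h8
      have h1 : quarter s ∈ zpowers a := by
        rw [quarter, hp, pow_mul, pow_two]
        exact pow_mem (haa (hsq s hsS)) p
      have h2 := quarter_mem_of_sq hn h1 (by
        rw [sq_eq_root (quarter_order hs4)]; exact ne_one_of_two (root_order (even_four (quarter_order hs4))))
      refine hnc (commute_of_mem (hq4 ▸ h2) ?_)
      exact (Commute.self_pow s _)
    rcases conj_eq_or_inv hso (self_conj_mem h hP hsS (by rw [hso]) haS) with e | e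
    · exact hnc (commute_of_mem hq4a (Commute.symm (mul_inv_eq_iff_eq_mul.1 e)))
    have h2 : Commute s (a * a) := by
      have : a * a * s * (a * a)⁻¹ = s := by
        rw [show a * a * s * (a * a)⁻¹ = a * (a * s * a⁻¹) * a⁻¹ by group, e, ← conj_inv, e, inv_inv]
      exact Commute.symm (mul_inv_eq_iff_eq_mul.1 this)
    by_cases h8 : orderOf a = 4
    · have hqa : q4 = a := by rw [hq4, quarter, h8, Nat.div_self (by norm_num), pow_one]
      have hsz : s * s = z := by rw [sq_eq_root hso, hroots s hsS (by rw [hso])]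
      have honly : ∀ v ∈ (S : Subgroup G), orderOf v = 2 → v = z := by
        intro v hvS hv
        by_cases hva : v ∈ zpowers a
        · exact (eq_root hva hv).trans hza.symm
        rcases conj_eq_or_inv hso (self_conj_mem h hP hsS (by rw [hso]) hvS) with e1 | e1
        · exact hkey v hvS s hsS hv hso (Commute.symm (mul_inv_eq_iff_eq_mul.1 e1))
        have hva' := hinv4 v hvS hva
        have hsa' := hinv4 s hsS hsa
        rw [hqa] at hva' hsa'
        have hq : a * s * (a * s) = z := by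
          rw [show a * s * (a * s) = a * (s * a * s⁻¹) * (s * s) by group, hsa', mul_inv_cancel, one_mul, hsz]
        have ho : orderOf (a * s) = 4 := orderOf_eq_prime_pow (p := 2) (n := 1)
          (by rw [pow_one, pow_two, hq]; exact ne_one_of_two hz)
          (by rw [show (2 : ℕ) ^ (1 + 1) = 2 * 2 from rfl, pow_mul, pow_two, pow_two, hq, sq_of_two hz])
        refine hkey v hvS (a * s) (mul_mem haS hsS) hv ho (Commute.symm ?_)
        have : v * (a * s) * v⁻¹ = a * s := by
          rw [show v * (a * s) * v⁻¹ = v * a * v⁻¹ * (v * s * v⁻¹) by group, hva', e1]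
          have e2 : s⁻¹ = z * s := inv_eq_of_mul_eq_one_left (by rw [mul_assoc, hsz, sq_of_two hz])
          have e3 : a⁻¹ * z = a := by rw [← hq4z, hqa, inv_mul_cancel_left]
          rw [e2, ← mul_assoc, e3]
        exact mul_inv_eq_iff_eq_mul.1 this
      have hncyc : ¬ IsCyclic G := fun hc => hna ⟨⟨fun a b => IsCyclic.commGroup.mul_comm a b⟩⟩
      obtain ⟨E, hE⟩ := Cfsg.Agent.S0204.result hncyc
      obtain ⟨g, hg⟩ := Cfsg.Lib.InvolCalc.exists_conj_le S
        (IsPGroup.of_card (p := 2) (n := 2) (G := E) (by rw [hE.card_four]; rfl))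
      have hEz : ∀ v : E, v ≠ 1 → (v : G) = g * z * g⁻¹ := by
        intro v hv
        have h2 : (v : G) * v = 1 := by exact_mod_cast congrArg Subtype.val (IsKleinFour.mul_self v)
        have ho : orderOf (v : G) = 2 := orderOf_eq_prime (by rw [pow_two, h2]) (fun q => hv (Subtype.ext q))
        have := honly _ (hg v v.2) (by
          rw [show g⁻¹ * (v : G) * g = g⁻¹ * v * g⁻¹⁻¹ by group, orderOf_conj]; exact ho)
        rw [← this]; group
      haveI := Fintype.ofFinite E
      have : Fintype.card E ≤ 2 := by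
        refine (Fintype.card_le_of_injective (fun v : E => decide (v = 1)) fun v w q => ?_).trans
          (le_of_eq Fintype.card_bool)
        simp only [decide_eq_decide] at q
        by_cases hv : v = 1
        · rw [hv, q.1 hv]
        · exact Subtype.ext ((hEz v hv).trans (hEz w (fun r => hv (q.2 r))).symm)
      rw [← Nat.card_eq_fintype_card, hE.card_four] at this
      omega
    · have hn3 : ∃ p, orderOf a / 4 = 2 * p := by
        rw [hn] at h8 ha4 ⊢
        rcases n with _ | _ | _ | l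
        · norm_num at ha4
        · norm_num at ha4
        · norm_num at h8
        · exact ⟨2 ^ l, by rw [show 2 ^ (l + 1 + 1 + 1) = 4 * (2 * 2 ^ l) by ring,
            Nat.mul_div_cancel_left _ (by norm_num)]⟩
      obtain ⟨p, hp⟩ := hn3
      refine hnc ?_
      rw [hq4, quarter, hp, pow_mul, pow_two]
      exact h2.pow_right p
  obtain ⟨u, huS, hua⟩ : ∃ u ∈ (S : Subgroup G), u ∉ zpowers a := by
    by_contra hcon
    push Not at hcon
    refine hnab fun x hx y hy => ?_
    exact commute_of_mem (hcon y hy) (commute_of_mem (hcon x hx) (Commute.refl a)).symm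
  have hu1 : u ≠ 1 := fun e => hua (e ▸ one_mem _)
  have hu : orderOf u = 2 := orderOf_eq_prime (by rw [pow_two, hout u huS hua]) hu1
  have huinv : u * a * u⁻¹ = a⁻¹ := by
    have h1 := hout (u * a) (mul_mem huS haS) (fun e => hua ((mul_mem_cancel_right (mem_zpowers a)).1 e))
    rw [inv_of_two hu]
    exact eq_inv_of_mul_eq_one_left (by rw [show u * a * u * a = u * a * (u * a) by group, h1])
  have haa1 : a * a ≠ 1 := fun e => by
    have := Nat.le_of_dvd two_pos (orderOf_dvd_of_pow_eq_one (show a ^ 2 = 1 by rw [pow_two, e]))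
    have := Nat.le_of_dvd (orderOf_pos a) ha4
    omega
  have hgen : (S : Subgroup G) ≤ zpowers a ⊔ zpowers u := by
    intro s hs
    by_cases hsa : s ∈ zpowers a
    · exact mem_sup_left hsa
    have h1 : s * u ∈ zpowers a := hC _ (mul_mem hs huS) (by
      have : s * u * q4 * (s * u)⁻¹ = q4 := by
        rw [show s * u * q4 * (s * u)⁻¹ = s * (u * q4 * u⁻¹) * s⁻¹ by group, hinv4 u huS hua, ← conj_inv,
          hinv4 s hs hsa, inv_inv]
      exact mul_inv_eq_iff_eq_mul.1 this)
    rw [show s = s * u * u⁻¹ by group]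
    exact mul_mem (mem_sup_left h1) (inv_mem (mem_sup_right (mem_zpowers u)))
  have hWa : ∀ w ∈ oddCent h hz, Commute w a := fun w hw =>
    (commute_of_root h hz hn₀ hw (hza ▸ hw.1.symm)).symm
  have hWinv : ∀ w ∈ oddCent h hz, u * w * u⁻¹ = w⁻¹ := by
    rcases centralises_or_inverts h hz hu (hzS u huS) with hc | hi
    · intro w hw
      rcases eq_or_ne w 1 with rfl | hw1
      · simp
      exfalso
      have e : Commute a u := (same_cent h hz hu hw.1 (hc w hw).symm hw.2 hw1 a).1 (hzS a haS)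
      rw [← e.eq, mul_inv_cancel_right] at huinv
      exact ne_inv_of_sq haa1 huinv.symm
    · exact hi
  refine psl_of_frame h hna hz S hzS haS hza hz_a hWa hu huS (fun e => hua (e ▸ hz_a)) hWinv huinv hgen ?_ ?_ ?_
  · intro v hvS hv hc
    exact hkey v hvS q4 hq4S hv hq4o (hc q4 (hzS q4 hq4S))
  · intro v hvS hv
    by_cases hva : v ∈ zpowers a
    · rw [(eq_root hva hv).trans hza.symm]
    have hidx : (zpowers a).relIndex (S : Subgroup G) = 2 := by
      rw [relIndex, index_eq_two_iff]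
      refine ⟨⟨u, huS⟩, fun b => ?_⟩
      simp only [mem_subgroupOf, Subgroup.coe_mul]
      by_cases hba : (b : G) ∈ zpowers a
      · exact Or.inr ⟨hba, fun q => hua ((mul_mem_cancel_left hba).1 q)⟩
      refine Or.inl ⟨?_, hba⟩
      refine hC _ (mul_mem b.2 huS) ?_
      have : (b : G) * u * q4 * ((b : G) * u)⁻¹ = q4 := by
        rw [show (b : G) * u * q4 * ((b : G) * u)⁻¹ = b * (u * q4 * u⁻¹) * (b : G)⁻¹ by group, hinv4 u huS hua,
          ← conj_inv, hinv4 b b.2 hba, inv_inv]
      exact mul_inv_eq_iff_eq_mul.1 this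
    rcases Cfsg.Agent.S0111.result S (zpowers a) (zpowers_le.2 haS) hidx v hv hvS hva with ⟨M, hM, hM2, -⟩ | ⟨g, hg⟩
    · exact (no_index_two hna hM hM2).elim
    · refine isConj_iff.2 ⟨g, ?_⟩
      exact (eq_root hg (by rw [orderOf_conj]; exact hv)).trans hza.symm
  · intro h12
    obtain ⟨k, hk⟩ := IsPGroup.iff_card.1 S.isPGroup'
    have h1 : orderOf a ∣ Nat.card (S : Subgroup G) := Subgroup.orderOf_dvd_natCard _ haS
    have h2 : Nat.card (S : Subgroup G) ∣ 12 := h12 ▸ card_subgroup_dvd_card _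
    have h3 := Nat.le_of_dvd (by norm_num) h2
    have h4 := Nat.le_of_dvd (orderOf_pos a) ha4
    rw [hk] at h1 h2 h3
    have hk4 : 2 ^ k = 4 := by
      rcases k with _ | _ | _ | _ | k
      · have := Nat.le_of_dvd (by norm_num) h1; omega
      · have := Nat.le_of_dvd (by norm_num) h1; omega
      · rfl
      · norm_num at h2
      · have : 16 ≤ 2 ^ (k + 1 + 1 + 1 + 1) := by
          rw [show (16 : ℕ) = 2 ^ 4 from rfl]; exact Nat.pow_le_pow_right two_pos (by omega)
        omega
    rw [hk4] at h1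
    have he : zpowers a = (S : Subgroup G) := eq_of_le_of_card_ge (zpowers_le.2 haS) (by
      rw [hk, hk4, Nat.card_zpowers]; exact h4)
    exact hua (he ▸ huS)

end Cfsg.Lib.CyclicNorm
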