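import Cfsg.Agent.InvolCalc.CyclicNormalisers.Common
import Cfsg.Agent.S0111

/-!
A nonabelian Sylow 2-subgroup with two involutions among the roots of its elements of order at least four
does not occur.
-/

set_option autoImplicit false
set_option linter.unusedSectionVars false

namespace Cfsg.Lib.CyclicNorm

open Subgroup

universe u

variable {G : Type u} [Group G] [Finite G] (h : CycNorm G)
include h

theorem four_facts {S : Sylow 2 G} {r r' : G} (hr : r ∈ (S : Subgroup G)) (hr' : r' ∈ (S : Subgroup G))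
    (ho : orderOf r = 4) (ho' : orderOf r' = 4) (hne : root r ≠ root r') :
    Commute r r' ∧ orderOf (r * r') = 4 ∧ root (r * r') = root r * root r' := by
  have hP := S.isPGroup'
  have hc : Commute r r' := commute_four h ho ho' (root_central h hP hr' (by rw [ho']) r hr)
    (root_central h hP hr (by rw [ho]) r' hr') hne
  have e : r * r' * (r * r') = root r * root r' := by
    rw [hc.symm.mul_mul_mul_comm, sq_eq_root ho, sq_eq_root ho']
  have hw := root_order (even_four ho)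
  have hw' := root_order (even_four ho')
  have hcw : Commute (root r) (root r') := commute_of_mem (root_mem r') (commute_of_mem (root_mem r) hc.symm).symm
  have h4 : orderOf (r * r') = 4 := orderOf_eq_prime_pow (p := 2) (n := 1)
    (by
      rw [pow_one, pow_two, e]
      exact fun q => hne (by rw [eq_inv_of_mul_eq_one_left q, inv_of_two hw']))
    (by
      rw [show (2 : ℕ) ^ (1 + 1) = 2 * 2 from rfl, pow_mul, pow_two, pow_two, e, hcw.symm.mul_mul_mul_comm,
        sq_of_two hw, sq_of_two hw', mul_one])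
  exact ⟨hc, h4, by rw [← sq_eq_root h4, e]⟩

theorem commute_of_all {S : Sylow 2 G} {r₁ r₂ : G} (h1 : r₁ ∈ (S : Subgroup G)) (h2 : r₂ ∈ (S : Subgroup G))
    (o1 : orderOf r₁ = 4) (o2 : orderOf r₂ = 4) (hne : root r₁ ≠ root r₂) {s r : G} (hs : s ∈ (S : Subgroup G))
    (hr : r ∈ (S : Subgroup G)) (ho : orderOf r = 4) (hsr : Commute s r) :
    ∀ r' ∈ (S : Subgroup G), orderOf r' = 4 → Commute s r' := by
  have key : ∀ x ∈ (S : Subgroup G), ∀ y ∈ (S : Subgroup G), orderOf x = 4 → orderOf y = 4 → root x ≠ root y →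
      Commute s x → Commute s y := by
    intro x hx y hy ox oy hxy hsx
    obtain ⟨hc, o, -⟩ := four_facts h hx hy ox oy hxy
    rcases conj_eq_or_inv oy (self_conj_mem h S.isPGroup' hy (by rw [oy]) hs) with e | e
    · exact mul_inv_eq_iff_eq_mul.1 e
    exfalso
    have hh : s * (x * y) * s⁻¹ = x * y⁻¹ := by
      rw [show s * (x * y) * s⁻¹ = s * x * s⁻¹ * (s * y * s⁻¹) by group, e, hsx.eq, mul_inv_cancel_right]
    rcases conj_eq_or_inv o (self_conj_mem h S.isPGroup' (mul_mem hx hy) (by rw [o]) hs) with e' | e' <;>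
      rw [hh] at e'
    · exact ne_inv_of_sq (y := y) (ne_one_of_two (sq_order oy)) (mul_left_cancel e')
    · rw [mul_inv_rev, ← hc.symm.inv_inv.symm.eq] at e'
      exact ne_inv_of_sq (y := x) (ne_one_of_two (sq_order ox)) (mul_right_cancel e').symm
  intro r' hr' ho'
  by_cases hrr : root r = root r'
  · obtain ⟨r₃, h3, o3, hne3⟩ : ∃ r₃ ∈ (S : Subgroup G), orderOf r₃ = 4 ∧ root r ≠ root r₃ := by
      by_cases q : root r = root r₁
      · exact ⟨r₂, h2, o2, q ▸ hne⟩
      · exact ⟨r₁, h1, o1, q⟩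
    exact key r₃ h3 r' hr' o3 ho' (hrr ▸ hne3.symm) (key r hr r₃ h3 ho o3 hne3 hsr)
  · exact key r hr r' hr' ho ho' hrr hsr

/-- If every element commutes with those of order four, `S` is abelian. -/
theorem abelian_of_central_four (S : Sylow 2 G)
    (hall : ∀ s ∈ (S : Subgroup G), ∀ r ∈ (S : Subgroup G), orderOf r = 4 → Commute s r) :
    ∀ a ∈ (S : Subgroup G), ∀ b ∈ (S : Subgroup G), Commute a b := by
  have hP := S.isPGroup'
  have hcen : ∀ N : ℕ, ∀ x ∈ (S : Subgroup G), orderOf x = N → 4 ∣ N → ∀ y ∈ (S : Subgroup G), Commute x y := by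
    intro N
    induction N using Nat.strong_induction_on with
    | _ N ih =>
    intro x hx hxN hN4 y hy
    subst hxN
    by_cases hx4 : orderOf x = 4
    · exact (hall y hy x hx hx4).symm
    obtain ⟨l₀, hl₀⟩ := two_pow_eq_one hP hx
    obtain ⟨l, -, hl⟩ := (Nat.dvd_prime_pow Nat.prime_two).1 (orderOf_dvd_of_pow_eq_one hl₀)
    obtain ⟨n, rfl⟩ : ∃ n, l = n + 3 := by
      rcases l with _ | _ | _ | l
      · rw [hl] at hN4; norm_num at hN4
      · rw [hl] at hN4; norm_num at hN4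
      · exact absurd hl hx4
      · exact ⟨l, rfl⟩
    have hpow : x ^ 2 ^ (n + 3) = 1 := hl ▸ pow_orderOf_eq_one x
    have hlow : ∀ q ∈ (S : Subgroup G), q * q ≠ 1 → q ^ 2 ^ (n + 2) = 1 → Commute q y := by
      intro q hq hqq hqp
      refine ih _ ?_ q hq rfl (four_dvd_of hP hq hqq) y hy
      rw [hl]
      exact lt_of_le_of_lt (Nat.le_of_dvd (by positivity) (orderOf_dvd_of_pow_eq_one hqp))
        (Nat.pow_lt_pow_right (by norm_num) (by omega))
    have hx2 : ∀ s ∈ (S : Subgroup G), Commute (x * x) s := by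
      intro s hs
      have ho : orderOf (x * x) = 2 ^ (n + 2) := by
        rw [← pow_two, orderOf_pow_of_dvd (by norm_num) (dvd_trans (by decide) hN4), hl, pow_succ _ (n + 2),
          Nat.mul_div_cancel _ two_pos]
      exact ih _ (by rw [hl]; exact Nat.pow_lt_pow_right (by norm_num) (by omega)) _ (mul_mem hx hx) ho
        ⟨2 ^ n, by ring⟩ s hs
    by_contra hxy
    obtain ⟨z, hzdef⟩ : ∃ z, z = root x := ⟨_, rfl⟩
    have hxe : Even (orderOf x) := even_iff_two_dvd.2 (dvd_trans (by decide) hN4)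
    have hz : orderOf z = 2 := hzdef ▸ root_order hxe
    have hzc : ∀ s ∈ (S : Subgroup G), Commute s z := hzdef ▸ root_central h hP hx hN4
    have hzS : z ∈ (S : Subgroup G) := hzdef ▸ (zpowers_le.2 hx) (root_mem x)
    have hxz : x ^ 2 ^ (n + 2) = z := by
      rw [hzdef, root, hl, pow_succ _ (n + 2), Nat.mul_div_cancel _ two_pos]
    obtain ⟨c, hc⟩ : ∃ c, c = x⁻¹ * (y * x * y⁻¹) := ⟨_, rfl⟩
    have hcx : c ∈ zpowers x := hc ▸ mul_mem (inv_mem (mem_zpowers x)) (self_conj_mem h hP hx hN4 hy)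
    have hyx : y * x * y⁻¹ = x * c := by rw [hc]; group
    have hc1 : c ≠ 1 := fun q => hxy (Commute.symm (mul_inv_eq_iff_eq_mul.1 (by rw [hyx, q, mul_one])))
    have hcz : c = z := by
      rw [hzdef]
      refine eq_root hcx (orderOf_eq_prime ?_ hc1)
      have h1 : x * c * (x * c) = x * x := by
        rw [← hyx, show y * x * y⁻¹ * (y * x * y⁻¹) = y * (x * x) * y⁻¹ by group, ← (hx2 y hy).eq,
          mul_inv_cancel_right]
      rw [(commute_of_mem hcx (Commute.refl x)).symm.mul_mul_mul_comm] at h1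
      rw [pow_two]
      exact mul_eq_left.1 h1
    by_cases hy2 : y * y = 1
    · -- an involution
      have hxy2 : x * x * y * (x * x * y) = x * x * (x * x) := by
        rw [(hx2 y hy).symm.mul_mul_mul_comm, hy2, mul_one]
      have hq' : Commute (x * x * y) x := by
        refine ih _ ?_ _ (mul_mem (mul_mem hx hx) hy) rfl (four_dvd_of hP (mul_mem (mul_mem hx hx) hy) ?_) x hx
        · rw [hl]
          refine lt_of_le_of_lt (Nat.le_of_dvd (by positivity) (orderOf_dvd_of_pow_eq_one (n := 2 ^ (n + 2)) ?_))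
            (Nat.pow_lt_pow_right (by norm_num) (by omega))
          rw [(hx2 y hy).mul_pow, ← pow_two x, ← pow_mul, ← pow_succ', hpow, one_mul, pow_succ', pow_mul, pow_two y,
            hy2, one_pow]
        · rw [hxy2]
          intro q
          have h4 : x ^ 4 = 1 := by rw [← q, show (4 : ℕ) = 2 * 2 from rfl, pow_mul, pow_two, pow_two]
          have h4' := Nat.le_of_dvd (by norm_num) (orderOf_dvd_of_pow_eq_one h4)
          have := Nat.le_of_dvd (orderOf_pos x) hN4
          exact hx4 (by omega)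
      have := (hx2 x hx).inv_left.mul_left hq'
      rw [inv_mul_cancel_left] at this
      exact hxy this.symm
    have hy4 := four_dvd_of hP hy hy2
    have hye : Even (orderOf y) := even_iff_two_dvd.2 (dvd_trans (by decide) hy4)
    have hyroot : root y = z := by
      have h1 : c⁻¹ ∈ zpowers y := by
        have e : c⁻¹ = y * (x⁻¹ * y * x⁻¹⁻¹)⁻¹ * 1 → c⁻¹ ∈ zpowers y := fun q =>
          q ▸ mul_mem (mul_mem (mem_zpowers y) (inv_mem (self_conj_mem h hP hy hy4 (inv_mem hx)))) (one_mem _)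
        refine e ?_
        rw [hcz, inv_of_two hz, ← hcz, mul_one]
        have e1 : y * (x⁻¹ * y * x⁻¹⁻¹)⁻¹ = y * x⁻¹ * y⁻¹ * x := by group
        rw [e1, show y * x⁻¹ * y⁻¹ = (y * x * y⁻¹)⁻¹ by group, hyx, mul_inv_rev, inv_mul_cancel_right, hcz,
          inv_of_two hz]
      rw [hcz, inv_of_two hz] at h1
      exact (eq_root h1 hz).symm
    obtain ⟨p₀, hp₀⟩ := two_pow_eq_one hP hy
    obtain ⟨p, -, hp⟩ := (Nat.dvd_prime_pow Nat.prime_two).1 (orderOf_dvd_of_pow_eq_one hp₀)
    have hpn : n + 3 ≤ p := by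
      by_contra hlt
      exact hxy (ih _ (by rw [hl]; exact Nat.pow_lt_pow_right (by norm_num) (by omega)) y hy hp
        (hp ▸ hy4) x hx).symm
    obtain ⟨y', hy'⟩ : ∃ y', y' = y ^ 2 ^ (p - (n + 3)) := ⟨_, rfl⟩
    have hy'S : y' ∈ (S : Subgroup G) := hy' ▸ pow_mem hy _
    have hy'y : Commute y' y := hy' ▸ Commute.pow_self y _
    have hy'o : orderOf y' = 2 ^ (n + 3) := by
      rw [hy', orderOf_pow_of_dvd (by positivity) (hp ▸ pow_dvd_pow 2 (by omega)), hp,
        Nat.pow_div (by omega) two_pos]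
      congr 1
      omega
    have hy'z : y' ^ 2 ^ (n + 2) = z := by
      rw [← hyroot, ← root_eq_of_mem (hy' ▸ npow_mem_zpowers y _ : y' ∈ zpowers y)
        (by rw [hy'o]; exact ⟨2 ^ (n + 2), by ring⟩), root, hy'o, pow_succ _ (n + 2),
        Nat.mul_div_cancel _ two_pos]
    obtain ⟨e, he⟩ : ∃ e, e = z ^ 2 ^ (p - (n + 3)) := ⟨_, rfl⟩
    have hxy' : y' * x = x * y' * e := by
      have h1 : ∀ k : ℕ, y ^ k * x = x * y ^ k * z ^ k := by
        intro k
        induction k with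
        | zero => simp
        | succ k ihk =>
          have h0 : y * x = x * y * z := by
            rw [show y * x = y * x * y⁻¹ * y by group, hyx, hcz, mul_assoc, mul_assoc, (hzc y hy).eq]
          rw [pow_succ, mul_assoc, h0, ← mul_assoc, ← mul_assoc, ihk, mul_assoc (x * y ^ k),
            ((hzc y hy).symm.pow_left k).eq, pow_succ z]
          simp [mul_assoc]
      rw [hy', he]
      exact h1 _
    have hec : ∀ s ∈ (S : Subgroup G), Commute s e := fun s hs => he ▸ (hzc s hs).pow_right _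
    have hee : e * e = 1 := by
      rw [he, ← (Commute.refl z).mul_pow, sq_of_two hz, one_pow]
    have heS : e ∈ (S : Subgroup G) := he ▸ pow_mem hzS _
    have hy'2x : Commute (y' * y') x := by
      show y' * y' * x = x * (y' * y')
      rw [mul_assoc, hxy', ← mul_assoc, ← mul_assoc, hxy', mul_assoc (x * y'), ← (hec y' hy'S).eq,
        show x * y' * (y' * e) * e = x * (y' * y') * (e * e) by group, hee, mul_one]
    obtain ⟨q, hq⟩ : ∃ q, q = x * y' := ⟨_, rfl⟩
    have hqS : q ∈ (S : Subgroup G) := hq ▸ mul_mem hx hy'S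
    have hqq : q * q = x * x * (y' * y') * e := by
      rw [hq, show x * y' * (x * y') = x * (y' * x) * y' by group, hxy', mul_assoc x (x * y' * e),
        mul_assoc (x * y'), ← (hec y' hy'S).eq]
      simp [mul_assoc]
    have hqpow : q ^ 2 ^ (n + 2) = 1 := by
      have hxyc : Commute (x * x) (y' * y') := hx2 _ (mul_mem hy'S hy'S)
      rw [pow_succ', pow_mul, pow_two, hqq, (((hec _ (mul_mem hx hx)).mul_left (hec _ (mul_mem hy'S hy'S)))).mul_pow,
        hxyc.mul_pow, ← pow_two x, ← pow_two y', ← pow_mul, ← pow_mul, ← pow_succ', hxz, hy'z, sq_of_two hz,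
        one_mul, pow_succ', pow_mul, pow_two e, hee, one_pow]
    have hfin : ∀ v ∈ (S : Subgroup G), v * v ≠ 1 → v ^ 2 ^ (n + 2) = 1 → ∀ w, v = x * w → Commute w y → False := by
      intro v hv h1 h2 w hvw hwy
      have := (hlow v hv h1 h2).mul_left hwy.inv_left
      rw [hvw, mul_inv_cancel_right] at this
      exact hxy this
    by_cases hq2 : q * q = 1
    · refine hfin (q * (y' * y')) (mul_mem hqS (mul_mem hy'S hy'S)) ?_ ?_ (y' * (y' * y'))
        (by rw [hq, mul_assoc]) (hy'y.mul_left (hy'y.mul_left hy'y))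
      · have hc1' : Commute q (y' * y') := hq ▸ hy'2x.symm.mul_left ((Commute.refl y').mul_right (Commute.refl y'))
        rw [hc1'.symm.mul_mul_mul_comm, hq2, one_mul]
        intro q'
        have h4 : y' ^ 4 = 1 := by rw [← q', show (4 : ℕ) = 2 * 2 from rfl, pow_mul, pow_two, pow_two]
        have := Nat.le_of_dvd (by norm_num) (orderOf_dvd_of_pow_eq_one h4)
        rw [hy'o] at this
        have : 2 ^ 3 ≤ 2 ^ (n + 3) := Nat.pow_le_pow_right two_pos (by omega)
        omega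
      · have hc1' : Commute q (y' * y') := hq ▸ hy'2x.symm.mul_left ((Commute.refl y').mul_right (Commute.refl y'))
        rw [hc1'.mul_pow, hqpow, one_mul, ← pow_two, ← pow_mul, ← pow_succ', ← hy'o, pow_orderOf_eq_one]
    · exact hfin q hqS hq2 hqpow y' hq hy'y
  intro a ha b hb
  by_cases ha2 : a * a = 1
  · by_cases hb2 : b * b = 1
    · by_cases hab2 : a * b * (a * b) = 1
      · show a * b = b * a
        rw [eq_inv_of_mul_eq_one_left hab2, mul_inv_rev, inv_eq_of_mul_eq_one_right ha2,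
          inv_eq_of_mul_eq_one_right hb2]
      · have h1 := hcen _ (a * b) (mul_mem ha hb) rfl (four_dvd_of hP (mul_mem ha hb) hab2) b hb
        have := h1.mul_left (Commute.refl b).inv_left
        rwa [mul_inv_cancel_right] at this
    · exact (hcen _ b hb rfl (four_dvd_of hP hb hb2) a ha).symm
  · exact hcen _ a ha rfl (four_dvd_of hP ha ha2) b hb

theorem no_two_roots [IsSimpleGroup G] (hna : ¬ IsMulCommutative G) (S : Sylow 2 G)
    (hnab : ¬ ∀ x ∈ (S : Subgroup G), ∀ y ∈ (S : Subgroup G), Commute x y) {x₁ x₂ : G}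
    (hx₁ : x₁ ∈ (S : Subgroup G)) (hx₂ : x₂ ∈ (S : Subgroup G)) (h₁ : 4 ∣ orderOf x₁) (h₂ : 4 ∣ orderOf x₂)
    (hne₀ : root x₁ ≠ root x₂) : False := by
  classical
  haveI := Fact.mk Nat.prime_two
  have hP := S.isPGroup'
  obtain ⟨r₁, h1, o1, hr1⟩ : ∃ r ∈ (S : Subgroup G), orderOf r = 4 ∧ root r = root x₁ :=
    ⟨_, (zpowers_le.2 hx₁) (quarter_mem x₁), quarter_order h₁, root_quarter h₁⟩
  obtain ⟨r₂, h2, o2, hr2⟩ : ∃ r ∈ (S : Subgroup G), orderOf r = 4 ∧ root r = root x₂ :=
    ⟨_, (zpowers_le.2 hx₂) (quarter_mem x₂), quarter_order h₂, root_quarter h₂⟩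
  have hne : root r₁ ≠ root r₂ := by rwa [hr1, hr2]
  have hfc : ∀ r ∈ (S : Subgroup G), orderOf r = 4 → ∀ r' ∈ (S : Subgroup G), orderOf r' = 4 → Commute r r' :=
    fun r hr ho => commute_of_all h h1 h2 o1 o2 hne hr hr ho (Commute.refl r)
  obtain ⟨hc12, o12, hr12⟩ := four_facts h h1 h2 o1 o2 hne
  let B : Subgroup G :=
    { carrier := {s | s ∈ (S : Subgroup G) ∧ Commute s r₁}
      one_mem' := ⟨one_mem _, Commute.one_left _⟩
      mul_mem' := fun a b => ⟨mul_mem a.1 b.1, a.2.mul_left b.2⟩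
      inv_mem' := fun a => ⟨inv_mem a.1, a.2.inv_left⟩ }
  have hBall : ∀ s ∈ B, ∀ r ∈ (S : Subgroup G), orderOf r = 4 → Commute s r := fun s hs =>
    commute_of_all h h1 h2 o1 o2 hne hs.1 h1 o1 hs.2
  obtain ⟨u, huS, huB⟩ : ∃ u ∈ (S : Subgroup G), u ∉ B := by
    by_contra hcon
    push Not at hcon
    exact hnab (abelian_of_central_four h S fun s hs => hBall s (hcon s hs))
  have hinv : ∀ s ∈ (S : Subgroup G), s ∉ B → ∀ r ∈ (S : Subgroup G), orderOf r = 4 → s * r * s⁻¹ = r⁻¹ :=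
    fun s hs hsB r hr ho => (conj_eq_or_inv ho (self_conj_mem h hP hr (by rw [ho]) hs)).resolve_left fun e =>
      hsB ⟨hs, commute_of_all h h1 h2 o1 o2 hne hs hr ho (mul_inv_eq_iff_eq_mul.1 e) r₁ h1 o1⟩
  have hinvol : ∀ s ∈ (S : Subgroup G), s ∉ B → s * s = 1 := by
    intro s hs hsB
    by_contra hs2
    have h4 := four_dvd_of hP hs hs2
    exact hsB ⟨hs, commute_of_all h h1 h2 o1 o2 hne hs ((zpowers_le.2 hs) (quarter_mem s)) (quarter_order h4)
      (Commute.self_pow s _) r₁ h1 o1⟩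
  have hidx : B.relIndex (S : Subgroup G) = 2 := by
    rw [relIndex, index_eq_two_iff]
    refine ⟨⟨u, huS⟩, fun b => ?_⟩
    simp only [mem_subgroupOf, Subgroup.coe_mul]
    by_cases hbB : (b : G) ∈ B
    · exact Or.inr ⟨hbB, fun q => huB ((mul_mem_cancel_left hbB).1 q)⟩
    refine Or.inl ⟨⟨mul_mem b.2 huS, mul_inv_eq_iff_eq_mul.1 ?_⟩, hbB⟩
    rw [show (b : G) * u * r₁ * ((b : G) * u)⁻¹ = b * (u * r₁ * u⁻¹) * (b : G)⁻¹ by group, hinv u huS huB r₁ h1 o1,
      ← conj_inv, hinv b b.2 hbB r₁ h1 o1, inv_inv]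
  have hBinv : ∀ s ∈ (S : Subgroup G), s ∉ B → ∀ b ∈ B, s * b * s⁻¹ = b⁻¹ := by
    intro s hs hsB b hb
    have hsb : s * b ∉ B := fun q => hsB ((mul_mem_cancel_right hb).1 q)
    have e1 := hinvol s hs hsB
    have e2 := hinvol _ (mul_mem hs hb.1) hsb
    rw [inv_eq_of_mul_eq_one_right e1]
    exact eq_inv_of_mul_eq_one_left (by rw [← e2]; group)
  have hBab : ∀ a ∈ B, ∀ b ∈ B, Commute a b := by
    intro a ha b hb
    have e : u * (a * b) * u⁻¹ = a⁻¹ * b⁻¹ := by
      rw [show u * (a * b) * u⁻¹ = u * a * u⁻¹ * (u * b * u⁻¹) by group, hBinv u huS huB a ha, hBinv u huS huB b hb]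
    rw [hBinv u huS huB _ (mul_mem ha hb), mul_inv_rev] at e
    exact (Commute.inv_inv_iff.1 e.symm)
  have hcentralB : ∀ e ∈ B, orderOf e = 2 → ∀ s ∈ (S : Subgroup G), Commute s e := by
    intro e he heo s hs
    by_cases hsB : s ∈ B
    · exact hBab s hsB e he
    · have := hBinv s hs hsB e he
      rw [inv_of_two heo] at this
      exact mul_inv_eq_iff_eq_mul.1 this
  have hu1 : u ≠ 1 := fun e => huB (e ▸ B.one_mem)
  have hu : orderOf u = 2 := orderOf_eq_prime (by rw [pow_two, hinvol u huS huB]) hu1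
  rcases Cfsg.Agent.S0111.result S B (fun s hs => hs.1) hidx u hu huS huB with ⟨M, hM, hM2, -⟩ | ⟨g, hg⟩
  · exact no_index_two hna hM hM2
  have hge : orderOf (g * u * g⁻¹) = 2 := by rw [orderOf_conj]; exact hu
  -- `C(u)` contains a Sylow 2-subgroup through `u` and the roots
  have hcu : Nat.card (S : Subgroup G) ∣ Nat.card (centralizer ({u} : Set G)) := by
    refine dvd_trans (dvd_of_eq ?_) (card_dvd_of_le (H := (S : Subgroup G).map (MulAut.conj g⁻¹).toMonoidHom) ?_)
    · rw [card_map_of_injective (MulAut.conj g⁻¹).injective]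
    rintro _ ⟨s, hs, rfl⟩
    refine mem_centralizer_singleton_iff.2 ?_
    simp only [MulEquiv.coe_toMonoidHom, MulAut.conj_apply, inv_inv]
    calc g⁻¹ * s * g * u = g⁻¹ * (s * (g * u * g⁻¹)) * g := by group
      _ = g⁻¹ * (g * u * g⁻¹ * s) * g := by rw [(hcentralB _ hg hge s hs).eq]
      _ = _ := by group
  obtain ⟨P0, hP0⟩ : ∃ P0, P0 = (S : Subgroup G) ⊓ centralizer ({u} : Set G) := ⟨_, rfl⟩
  have hp0 : IsPGroup 2 ↥(P0.subgroupOf (centralizer ({u} : Set G))) :=
    (hP.to_le (hP0 ▸ inf_le_left : P0 ≤ (S : Subgroup G))).comap_of_injective _ (centralizer ({u} : Set G)).subtype_injective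
  obtain ⟨R, hR⟩ := hp0.exists_le_sylow
  have hRcard : Nat.card ↥((R : Subgroup ↥(centralizer ({u} : Set G))).map (centralizer ({u} : Set G)).subtype) =
      2 ^ (Nat.card G).factorization 2 := by
    rw [card_map_of_injective (centralizer ({u} : Set G)).subtype_injective, R.card_eq_multiplicity]
    congr 1
    refine le_antisymm ((Nat.prime_two.pow_dvd_iff_le_factorization Nat.card_pos.ne').1
      ((Nat.ordProj_dvd _ 2).trans (card_subgroup_dvd_card _))) ?_
    refine (Nat.prime_two.pow_dvd_iff_le_factorization Nat.card_pos.ne').1 ?_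
    rw [← S.card_eq_multiplicity]
    exact hcu
  obtain ⟨T, hTdef⟩ : ∃ T : Sylow 2 G, (T : Subgroup G) =
      (R : Subgroup ↥(centralizer ({u} : Set G))).map (centralizer ({u} : Set G)).subtype :=
    ⟨Sylow.ofCard _ hRcard, Sylow.coe_ofCard _ hRcard⟩
  have hTu : ∀ t ∈ (T : Subgroup G), Commute t u := by
    rw [hTdef]
    rintro _ ⟨t, -, rfl⟩
    exact mem_centralizer_singleton_iff.1 t.2
  have hin : ∀ x ∈ (S : Subgroup G), Commute x u → x ∈ (T : Subgroup G) := by
    intro x hx hxu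
    rw [hTdef]
    refine ⟨⟨x, mem_centralizer_singleton_iff.2 hxu⟩, hR (mem_subgroupOf.2 ?_), rfl⟩
    rw [hP0]
    exact ⟨hx, mem_centralizer_singleton_iff.2 hxu⟩
  obtain ⟨k, hk⟩ := MulAction.exists_smul_eq G T S
  have hkmem : ∀ x ∈ (T : Subgroup G), k * x * k⁻¹ ∈ (S : Subgroup G) := by
    intro x hx
    rw [← hk]
    exact ⟨x, hx, rfl⟩
  have hcent : ∀ r ∈ (S : Subgroup G), orderOf r = 4 → k * root r * k⁻¹ ∈ B → False := by
    intro r hr ho hcB
    obtain ⟨c, hcdef⟩ : ∃ c, c = root r := ⟨_, rfl⟩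
    rw [← hcdef] at hcB
    have hc2 : orderOf c = 2 := hcdef ▸ root_order (even_four ho)
    have hcS : ∀ s ∈ (S : Subgroup G), Commute s c := hcdef ▸ root_central h hP hr (by rw [ho])
    have hcT : ∀ t ∈ (T : Subgroup G), Commute t c := by
      intro t ht
      have h' := (hcentralB _ hcB (by rw [orderOf_conj]; exact hc2) _ (hkmem t ht)).eq
      show t * c = c * t
      calc t * c = k⁻¹ * (k * t * k⁻¹ * (k * c * k⁻¹)) * k := by group
        _ = k⁻¹ * (k * c * k⁻¹ * (k * t * k⁻¹)) * k := by rw [h']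
        _ = _ := by group
    obtain ⟨w, hw, t, ht, e⟩ := decompose h hc2 T hcT (hcS r₁ h1)
    have hm : u * r₁ * u⁻¹ * r₁⁻¹ = u * w * u⁻¹ * w⁻¹ := by
      rw [← e, show u * (w * t) * u⁻¹ * (w * t)⁻¹ = u * w * u⁻¹ * (u * t * u⁻¹) * t⁻¹ * w⁻¹ by group,
        ← (hTu t ht).eq, mul_inv_cancel_right, mul_inv_cancel_right]
    have h0 : u * r₁ * u⁻¹ * r₁⁻¹ = 1 := oddCent_inf h hc2 hP
      (hm ▸ mul_mem (oddCent_conj h hc2 (hcS u huS) hw) (inv_mem hw))
      (mul_mem (mul_mem (mul_mem huS h1) (inv_mem huS)) (inv_mem h1))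
    exact huB ⟨huS, mul_inv_eq_iff_eq_mul.1 (mul_inv_eq_one.1 h0)⟩
  have hwT : ∀ r ∈ (S : Subgroup G), orderOf r = 4 → root r ∈ (T : Subgroup G) := fun r hr ho =>
    hin _ ((zpowers_le.2 hr) (root_mem r)) (root_central h hP hr (by rw [ho]) u huS).symm
  by_cases q1 : k * root r₁ * k⁻¹ ∈ B
  · exact hcent r₁ h1 o1 q1
  by_cases q2 : k * root r₂ * k⁻¹ ∈ B
  · exact hcent r₂ h2 o2 q2
  refine hcent _ (mul_mem h1 h2) o12 ?_
  rw [hr12, show k * (root r₁ * root r₂) * k⁻¹ = k * root r₁ * k⁻¹ * (k * root r₂ * k⁻¹) by group]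
  exact (mul_mem_iff_of_index_two (H := B.subgroupOf (S : Subgroup G)) hidx
    (a := ⟨_, hkmem _ (hwT r₁ h1 o1)⟩) (b := ⟨_, hkmem _ (hwT r₂ h2 o2)⟩)).2 (iff_of_false q1 q2)

end Cfsg.Lib.CyclicNorm
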