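import Cfsg.Agent.InvolCalc.CyclicNormalisers.Abelian
import Cfsg.Agent.InvolCalc.CyclicNormalisers.Dihedral
import Cfsg.Agent.InvolCalc.CyclicNormalisers.ManyRoots
import Cfsg.Agent.InvolCalc.CyclicNormalisers.Aut
import Cfsg.Agent.S0721
import Cfsg.Agent.OddChar.PF.OddOrder
import Cfsg.Agent.Classical.Misc.SmallPSL

/-!
A group without solvable normal subgroups in which cyclic subgroups of even order have the normalisers of
their subgroups is `PSL(2, q)` or `PGL(2, q)`.
-/

set_option autoImplicit false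
set_option linter.unusedSectionVars false

namespace Cfsg.Lib.CyclicNorm

open Subgroup

universe u

variable {G : Type u} [Group G] [Finite G]

theorem even_card_of_simple [IsSimpleGroup G] (hna : ¬ IsMulCommutative G) : Even (Nat.card G) := by
  by_contra hodd
  exact hna ⟨⟨IsSimpleGroup.comm_iff_isSolvable.2
    (Cfsg.Agent.PF.isSolvable_of_odd G (Nat.not_even_iff_odd.1 hodd))⟩⟩

theorem exists_odd_elt_of_not_two (h2 : ¬ IsPGroup 2 G) : ∃ y : G, y ≠ 1 ∧ Odd (orderOf y) := by
  obtain ⟨x, hx⟩ := not_forall.1 (fun hall : ∀ x : G, ∃ k : ℕ, x ^ 2 ^ k = 1 => h2 hall)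
  push Not at hx
  obtain ⟨k, m, hm, hxm⟩ := Nat.exists_eq_two_pow_mul_odd (orderOf_pos x).ne'
  refine ⟨x ^ 2 ^ k, hx k, ?_⟩
  rw [orderOf_pow_of_dvd (by positivity) (Dvd.intro m hxm.symm), hxm, Nat.mul_div_cancel_left _ (by positivity)]
  exact hm

theorem exists_odd_elt [IsSimpleGroup G] (hna : ¬ IsMulCommutative G) : ∃ y : G, y ≠ 1 ∧ Odd (orderOf y) := by
  refine exists_odd_elt_of_not_two fun hP => ?_
  haveI := Fact.mk Nat.prime_two
  haveI := hP.isNilpotent
  exact hna ⟨⟨IsSimpleGroup.comm_iff_isSolvable.2 inferInstance⟩⟩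

/-- The simple case. -/
theorem psl_of_simple [IsSimpleGroup G] (hna : ¬ IsMulCommutative G) (h : CycNorm G) : IsPSLTwo G := by
  haveI := Fact.mk Nat.prime_two
  by_cases hab : ∀ S : Sylow 2 G, ∀ a ∈ (S : Subgroup G), ∀ b ∈ (S : Subgroup G), Commute a b
  · exact psl_of_abelian h hna (even_card_of_simple hna) hab
  obtain ⟨S, hS⟩ := not_forall.1 hab
  have hex : ∃ x ∈ (S : Subgroup G), 4 ∣ orderOf x := by
    by_contra hcon
    push Not at hcon
    refine hS fun a ha b hb => ?_
    have hsq : ∀ x ∈ (S : Subgroup G), x * x = 1 := fun x hx => by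
      by_contra e; exact hcon x hx (four_dvd_of S.isPGroup' hx e)
    show a * b = b * a
    rw [← inv_eq_of_mul_eq_one_right (hsq _ (mul_mem ha hb)), mul_inv_rev, inv_eq_of_mul_eq_one_right (hsq a ha),
      inv_eq_of_mul_eq_one_right (hsq b hb)]
  obtain ⟨x₀, hx₀, h4⟩ := hex
  by_cases hone : ∀ x ∈ (S : Subgroup G), 4 ∣ orderOf x → root x = root x₀
  · exact psl_of_one_root h hna S hS hx₀ h4 hone
  push Not at hone
  obtain ⟨x, hx, hx4, hne⟩ := hone
  exact (no_two_roots h hna S hS hx hx₀ hx4 h4 hne).elim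

theorem isPSLTwo_ne_four (hG : IsPSLTwo G) : ∃ (F : Type) (_ : Field F) (_ : Fintype F), 4 < Fintype.card F ∧
    Nonempty (G ≃* Matrix.ProjectiveSpecialLinearGroup (Fin 2) F) := by
  obtain ⟨F, i1, i2, h3, ⟨e⟩⟩ := hG
  by_cases h4 : 4 < Fintype.card F
  · exact ⟨F, i1, i2, h4, ⟨e⟩⟩
  obtain ⟨e4⟩ := Cfsg.Lib.Classical.SmallPSL.psl_four (F := F) (by omega)
  haveI : Fact (Nat.Prime 5) := ⟨by norm_num⟩
  obtain ⟨e5⟩ := Cfsg.Lib.Classical.SmallPSL.psl_five (F := ZMod 5) (by rw [ZMod.card])
  exact ⟨ZMod 5, inferInstance, inferInstance, by rw [ZMod.card]; norm_num, ⟨e.trans (e4.trans e5.symm)⟩⟩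

theorem psl_or_pgl_of_hyp [Nontrivial G] (hss : ∀ N : Subgroup G, N.Normal → Group.IsSolvable ↥N → N = ⊥)
    (h : CycNorm G) :
    ∃ (F : Type) (_ : Field F) (_ : Fintype F), 3 < Fintype.card F ∧
      (Nonempty (G ≃* Matrix.ProjectiveSpecialLinearGroup (Fin 2) F) ∨
        Nonempty (G ≃* Matrix.ProjGenLinGroup (Fin 2) F)) := by
  classical
  haveI := Fact.mk Nat.prime_two
  obtain ⟨L, -, hLn, hL1, hmin⟩ := Cfsg.Lib.Coprime.exists_minimal_normal (K := (⊤ : Subgroup G)) inferInstance
    (fun e => not_nontrivial (⊥ : Subgroup G) (e ▸ (Subgroup.topEquiv (G := G)).toEquiv.nontrivial))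
  haveI := hLn
  have hL : CycNorm L := cycNorm_of_injective L.subtype L.subtype_injective h
  obtain ⟨T, iT, m, hT, hm, ⟨φ⟩⟩ := Cfsg.Agent.S0721.result L hL1 hmin
  haveI := hT
  haveI : Finite T := Finite.of_surjective (fun z : L => φ z ⟨0, hm⟩) fun z => ⟨φ.symm fun _ => z, by simp⟩
  have hTna : ¬ IsMulCommutative T := fun hc => hL1 (hss L hLn (Group.isSolvable_of_comm fun a b =>
    φ.injective (by rw [map_mul, map_mul]; funext i; exact hc.is_comm.comm _ _)))
  have hm1 : m = 1 := by
    by_contra hne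
    obtain ⟨t, ht⟩ := exists_prime_orderOf_dvd_card' (G := T) 2 (even_iff_two_dvd.1 (even_card_of_simple hTna))
    obtain ⟨y, hy1, hy⟩ := exists_odd_elt hTna
    let i0 : Fin m := ⟨0, hm⟩
    let i1 : Fin m := ⟨1, by omega⟩
    have hne01 : i0 ≠ i1 := by simp [i0, i1, Fin.ext_iff]
    let f : ∀ i : Fin m, T →* L := fun i => φ.symm.toMonoidHom.comp (MonoidHom.mulSingle (fun _ => T) i)
    have hfc : ∀ a b : T, Commute (f i0 a) (f i1 b) := fun a b =>
      (@Pi.mulSingle_commute (Fin m) (fun _ => T) _ _ i0 i1 hne01 a b).map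
        φ.symm.toMonoidHom
    have hfi : ∀ i, Function.Injective (f i) := fun i a b e => by
      have e' : (Pi.mulSingle i a : Fin m → T) = Pi.mulSingle i b :=
        φ.symm.injective (show φ.symm (Pi.mulSingle i a) = φ.symm (Pi.mulSingle i b) from e)
      simpa using congrFun e' i
    refine not_central hTna (ne_one_of_two ht) fun g => ?_
    have hy' : f i1 y ≠ 1 := fun e => hy1 (hfi i1 (e.trans (map_one _).symm))
    have := (odd_rule hL (t := f i0 t) (by rw [orderOf_injective _ (hfi i0)]; exact ht) (hfc t y).symm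
      (by rw [orderOf_injective _ (hfi i1)]; exact hy) hy' (f i0 g)).1
      (by rw [(hfc g y).eq, mul_inv_cancel_right]; exact mem_zpowers _)
    exact hfi i0 (by rw [map_mul, map_mul]; exact this.eq)
  subst hm1
  let e1 : (Fin 1 → T) ≃* T :=
    { toFun := fun f => f 0
      invFun := fun z _ => z
      left_inv := fun f => funext fun i => by rw [Subsingleton.elim i 0]
      right_inv := fun _ => rfl
      map_mul' := fun _ _ => rfl }
  haveI hLs : IsSimpleGroup L := (φ.trans e1).isSimpleGroup_congr.2 hT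
  have hLna : ¬ IsMulCommutative L := fun hc => hL1 (hss L hLn (Group.isSolvable_of_comm fun a b => hc.is_comm.comm a b))
  -- the centraliser of the minimal normal subgroup is trivial
  have hC : centralizer (L : Set G) = ⊥ := by
    haveI : (centralizer (L : Set G)).Normal := Subgroup.normal_centralizer
    refine hss _ inferInstance ?_
    suffices hP : IsPGroup 2 (centralizer (L : Set G)) by
      haveI := hP.isNilpotent
      infer_instance
    by_contra hP
    obtain ⟨y, hy1, hy⟩ := exists_odd_elt_of_not_two hP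
    obtain ⟨t, ht⟩ := exists_prime_orderOf_dvd_card' (G := L) 2 (even_iff_two_dvd.1 (even_card_of_simple hLna))
    refine not_central hLna (ne_one_of_two ht) fun g => ?_
    have hyc : ∀ a : L, Commute (y : G) a := fun a => ((mem_centralizer_iff.1 y.2) a a.2).symm
    have := (odd_rule h (t := (t : G)) (by rw [Subgroup.orderOf_coe]; exact ht) (hyc t)
      (by rw [Subgroup.orderOf_coe]; exact hy) (fun e => hy1 (Subtype.ext e)) (g : G)).1
      (by rw [(hyc g).symm.eq, mul_inv_cancel_right]; exact mem_zpowers _)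
    exact Subtype.ext this.eq
  obtain ⟨F, i1, i2, h4, ⟨e⟩⟩ := isPSLTwo_ne_four (psl_of_simple hLna hL)
  let ψ : G →* MulAut (Matrix.ProjectiveSpecialLinearGroup (Fin 2) F) :=
    (MulAut.congr e).toMonoidHom.comp MulAut.conjNormal
  have hψ : Function.Injective ψ := by
    refine (MulAut.congr e).injective.comp ?_
    rw [injective_iff_map_eq_one]
    intro g hg
    have : g ∈ centralizer (L : Set G) := mem_centralizer_iff.2 fun a ha => by
      have := congrArg Subtype.val (MulEquiv.congr_fun hg ⟨a, ha⟩)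
      rw [MulAut.conjNormal_apply] at this
      simp only [MulAut.one_apply] at this
      exact (mul_inv_eq_iff_eq_mul.1 this).symm
    rwa [hC, mem_bot] at this
  have hInn : ∀ x, MulAut.conj x ∈ ψ.range := by
    intro x
    refine ⟨(e.symm x : G), MulEquiv.ext fun z => ?_⟩
    show e (MulAut.conjNormal (e.symm x : G) (e.symm z)) = x * z * x⁻¹
    rw [show MulAut.conjNormal (e.symm x : G) (e.symm z) = e.symm x * e.symm z * (e.symm x)⁻¹ from
      Subtype.ext (by rw [MulAut.conjNormal_apply]; simp)]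
    simp
  let Ψ : G ≃* ψ.range := MonoidHom.ofInjective hψ
  have hA : CycNorm ψ.range := cycNorm_of_injective Ψ.symm.toMonoidHom Ψ.symm.injective h
  refine ⟨F, i1, i2, by omega, ?_⟩
  rcases psl_or_pgl hA h4 hInn with q | q
  · exact Or.inl ⟨Ψ.trans ((MulEquiv.subgroupCongr q).trans (MonoidHom.ofInjective conj_injective).symm)⟩
  · obtain ⟨r⟩ := range_conjP_equiv (F := F)
    exact Or.inr ⟨Ψ.trans ((MulEquiv.subgroupCongr q).trans r)⟩

end Cfsg.Lib.CyclicNorm
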