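import Cfsg.Agent.InvolCalc.CyclicNormalisers.Basic

/-!
In a 2-subgroup the involution of a cyclic subgroup of order at least 4 is central.
-/

set_option autoImplicit false
set_option linter.unusedSectionVars false

namespace Cfsg.Lib.CyclicNorm

open Subgroup

universe u

variable {G : Type u} [Group G] [Finite G]

theorem two_pow_eq_one {P : Subgroup G} (hP : IsPGroup 2 P) {x : G} (hx : x ∈ P) : ∃ n, x ^ 2 ^ n = 1 := by
  obtain ⟨n, hn⟩ := hP ⟨x, hx⟩
  exact ⟨n, by simpa using congrArg Subtype.val hn⟩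

theorem four_dvd_of {P : Subgroup G} (hP : IsPGroup 2 P) {x : G} (hx : x ∈ P) (h2 : x * x ≠ 1) :
    4 ∣ orderOf x := by
  obtain ⟨n, hn⟩ := two_pow_eq_one hP hx
  obtain ⟨k, -, hk⟩ := (Nat.dvd_prime_pow Nat.prime_two).1 (orderOf_dvd_of_pow_eq_one hn)
  rcases k with _ | _ | k
  · exact absurd (by rw [← pow_two]; exact orderOf_dvd_iff_pow_eq_one.1 (by rw [hk]; norm_num)) h2
  · exact absurd (by rw [← pow_two]; exact orderOf_dvd_iff_pow_eq_one.1 (by rw [hk]; norm_num)) h2
  · exact ⟨2 ^ k, by rw [hk]; ring⟩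

theorem sq_eq_root {r : G} (hr : orderOf r = 4) : r * r = root r := by rw [root, hr, ← pow_two]

theorem even_four {r : G} (hr : orderOf r = 4) : Even (orderOf r) := by rw [hr]; decide

theorem sq_order {r : G} (hr : orderOf r = 4) : orderOf (r * r) = 2 := by
  rw [sq_eq_root hr]; exact root_order (even_four hr)

/-- The element of order four in a cyclic group. -/
noncomputable def quarter (x : G) : G := x ^ (orderOf x / 4)

theorem quarter_order {x : G} (h : 4 ∣ orderOf x) : orderOf (quarter x) = 4 := by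
  have hpos := orderOf_pos x
  obtain ⟨k, hk⟩ := h
  rw [quarter, orderOf_pow_of_dvd (by omega) ⟨4, by omega⟩, show orderOf x / 4 = k by omega, hk,
    Nat.mul_div_cancel _ (by omega)]

theorem quarter_mem (x : G) : quarter x ∈ zpowers x := npow_mem_zpowers x _

theorem root_quarter {x : G} (h : 4 ∣ orderOf x) : root (quarter x) = root x :=
  root_eq_of_mem (quarter_mem x) (even_four (quarter_order h))

theorem eq_of_mem_four {r z : G} (hr : orderOf r = 4) (hz : z ∈ zpowers r) :
    z = 1 ∨ z = r ∨ z = r * r ∨ z = r⁻¹ := by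
  classical
  rw [mem_zpowers_iff_mem_range_orderOf, Finset.mem_image] at hz
  obtain ⟨i, hi, rfl⟩ := hz
  rw [Finset.mem_range, hr] at hi
  have h4 : r ^ 4 = 1 := by rw [← hr, pow_orderOf_eq_one]
  rcases (by omega : i = 0 ∨ i = 1 ∨ i = 2 ∨ i = 3) with rfl | rfl | rfl | rfl
  · exact Or.inl (pow_zero r)
  · exact Or.inr (Or.inl (pow_one r))
  · exact Or.inr (Or.inr (Or.inl (pow_two r)))
  · exact Or.inr (Or.inr (Or.inr (eq_inv_of_mul_eq_one_left (by rw [← pow_succ, h4]))))

theorem conj_eq_or_inv {r g : G} (hr : orderOf r = 4) (hg : g * r * g⁻¹ ∈ zpowers r) :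
    g * r * g⁻¹ = r ∨ g * r * g⁻¹ = r⁻¹ := by
  have ho := (orderOf_conj g r).trans hr
  rcases eq_of_mem_four hr hg with e | e | e | e
  · rw [e, orderOf_one] at ho; omega
  · exact Or.inl e
  · rw [e, sq_order hr] at ho; omega
  · exact Or.inr e

theorem commute_of_mem {a b x : G} (hb : b ∈ zpowers x) (h : Commute a x) : Commute a b := by
  obtain ⟨k, rfl⟩ := hb; exact h.zpow_right k

theorem ne_inv_of_sq {y : G} (h : y * y ≠ 1) : y⁻¹ ≠ y := fun e => h (by
  nth_rewrite 1 [← e]; exact inv_mul_cancel y)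

variable (h : CycNorm G)
include h

/-- Elements of order four with different involutions, each commuting with the other's, commute. -/
theorem commute_four {r r' : G} (hr : orderOf r = 4) (hr' : orderOf r' = 4) (hc : Commute r (root r'))
    (hc' : Commute r' (root r)) (hne : root r ≠ root r') : Commute r r' :=
  commute_of_norm ((self_rule h (even_four hr') r).2 hc) ((self_rule h (even_four hr) r').2 hc')
    (disjoint_of_root (n := 2) (by rw [show (2 : ℕ) ^ 2 = 4 from rfl, ← hr, pow_orderOf_eq_one]) hne)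

theorem root_central {P : Subgroup G} (hP : IsPGroup 2 P) {x : G} (hx : x ∈ P) (h4 : 4 ∣ orderOf x) :
    ∀ p ∈ P, Commute p (root x) := by
  classical
  haveI := Fact.mk Nat.prime_two
  by_contra hcon
  push Not at hcon
  obtain ⟨r, hrdef⟩ : ∃ r, r = quarter x := ⟨_, rfl⟩
  have hr : orderOf r = 4 := hrdef ▸ quarter_order h4
  have hrP : r ∈ P := hrdef ▸ (zpowers_le.2 hx) (quarter_mem x)
  obtain ⟨w, hwdef⟩ : ∃ w, w = root r := ⟨_, rfl⟩
  rw [← root_quarter h4, ← hrdef, ← hwdef] at hcon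
  obtain ⟨p0, hp0, hp0w⟩ := hcon
  have hsq : r * r = w := (sq_eq_root hr).trans hwdef.symm
  have hw2 : orderOf w = 2 := by rw [← hsq]; exact sq_order hr
  have hwP : w ∈ P := hsq ▸ mul_mem hrP hrP
  -- an element normalising `C_P(w)`
  haveI : Group.IsNilpotent P := hP.isNilpotent
  have hlt : (centralizer ({w} : Set G)).subgroupOf P < ⊤ := lt_top_iff_ne_top.2 fun e => hp0w
    (mem_centralizer_singleton_iff.1 (mem_subgroupOf.1 (e ▸ mem_top (⟨p0, hp0⟩ : P))))
  obtain ⟨s₀, hs₀N, hs₀C⟩ := SetLike.exists_of_lt (Group.normalizerCondition_of_isNilpotent _ hlt)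
  have hex : ∃ k : ℕ, s₀ ^ 2 ^ k ∈ (centralizer ({w} : Set G)).subgroupOf P := by
    obtain ⟨k, hk⟩ := hP s₀
    exact ⟨k, hk ▸ one_mem _⟩
  obtain ⟨k, hk⟩ : ∃ k, Nat.find hex = k := ⟨_, rfl⟩
  rcases k with _ | k
  · have := Nat.find_spec hex
    rw [hk] at this
    exact hs₀C (by simpa using this)
  have hs2' : s₀ ^ 2 ^ k * s₀ ^ 2 ^ k ∈ (centralizer ({w} : Set G)).subgroupOf P := by
    have := Nat.find_spec hex
    rw [hk, pow_succ, mul_two, pow_add] at this
    exact this
  have hsC : s₀ ^ 2 ^ k ∉ (centralizer ({w} : Set G)).subgroupOf P := Nat.find_min hex (by omega)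
  have hsN : s₀ ^ 2 ^ k ∈ normalizer (((centralizer ({w} : Set G)).subgroupOf P : Subgroup P) : Set P) :=
    pow_mem hs₀N _
  obtain ⟨⟨s, hsP⟩, hs⟩ : ∃ s : P, s = s₀ ^ 2 ^ k := ⟨_, rfl⟩
  rw [← hs] at hs2' hsC hsN
  have hsw : ¬ Commute s w := fun e => hsC (mem_subgroupOf.2 (mem_centralizer_singleton_iff.2 e))
  have hssw : Commute (s * s) w := mem_centralizer_singleton_iff.1 (mem_subgroupOf.1 hs2')
  have hnorm : ∀ c ∈ P, Commute c w → Commute c (s * w * s⁻¹) := by
    intro c hc hcw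
    have h1 := (mem_normalizer_iff.1 (inv_mem hsN) ⟨c, hc⟩).1
      (mem_subgroupOf.2 (mem_centralizer_singleton_iff.2 hcw))
    have h2 : Commute (s⁻¹ * c * s) w := by
      have := mem_centralizer_singleton_iff.1 (mem_subgroupOf.1 h1)
      simpa [Commute, SemiconjBy] using this
    show c * (s * w * s⁻¹) = s * w * s⁻¹ * c
    calc c * (s * w * s⁻¹) = s * ((s⁻¹ * c * s) * w) * s⁻¹ := by group
      _ = s * (w * (s⁻¹ * c * s)) * s⁻¹ := by rw [h2.eq]
      _ = _ := by group
  -- the conjugate element of order four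
  obtain ⟨r', hr'def⟩ : ∃ r', r' = s * r * s⁻¹ := ⟨_, rfl⟩
  obtain ⟨w', hw'def⟩ : ∃ w', w' = s * w * s⁻¹ := ⟨_, rfl⟩
  rw [← hw'def] at hnorm
  have hr' : orderOf r' = 4 := by rw [hr'def, orderOf_conj]; exact hr
  have hroot' : root r' = w' := by rw [hr'def, root_conj, ← hwdef, hw'def]
  have hr'P : r' ∈ P := hr'def ▸ mul_mem (mul_mem hsP hrP) (inv_mem hsP)
  have hsq' : r' * r' = w' := (sq_eq_root hr').trans hroot'
  have hne : w ≠ w' := fun e => hsw (by
    rw [hw'def] at e
    show s * w = w * s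
    nth_rewrite 2 [e]
    group)
  have hrw : Commute r w := hwdef ▸ root_commute r
  have hrw' : Commute r w' := hnorm r hrP hrw
  have hw'C : Commute w w' := hnorm w hwP (Commute.refl w)
  have hr'w : Commute r' w := by
    show r' * w = w * r'
    have e1 : s * (s * w * s⁻¹) * s⁻¹ = w := by
      rw [show s * (s * w * s⁻¹) * s⁻¹ = s * s * w * (s * s)⁻¹ by group, hssw.eq, mul_inv_cancel_right]
    rw [← e1, ← hw'def, hr'def]
    calc s * r * s⁻¹ * (s * w' * s⁻¹) = s * (r * w') * s⁻¹ := by group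
      _ = s * (w' * r) * s⁻¹ := by rw [hrw'.eq]
      _ = _ := by group
  have hcomm : Commute r r' := commute_four h hr hr' (hroot' ▸ hrw') (hwdef ▸ hr'w)
    (by rw [hroot', ← hwdef]; exact hne)
  -- the product
  obtain ⟨c, hcdef⟩ : ∃ c, c = r * r' := ⟨_, rfl⟩
  have hcc : c * c = w * w' := by
    rw [hcdef, hcomm.symm.mul_mul_mul_comm, hsq, hsq']
  have hvne : c * c ≠ 1 := fun e => hne (by
    rw [hcc] at e
    rw [eq_inv_of_mul_eq_one_left e, inv_of_two (by rw [hw'def, orderOf_conj]; exact hw2)])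
  have hc4 : orderOf c = 4 := by
    refine orderOf_eq_prime_pow (p := 2) (n := 1) (by rw [pow_one, pow_two]; exact hvne) ?_
    rw [show (2 : ℕ) ^ (1 + 1) = 2 * 2 from rfl, pow_mul, pow_two, pow_two, hcc,
      hw'C.symm.mul_mul_mul_comm, sq_of_two hw2, sq_of_two (by rw [hw'def, orderOf_conj]; exact hw2), mul_one]
  have hsv : Commute s (root c) := by
    rw [← sq_eq_root hc4, hcc]
    show s * (w * w') = w * w' * s
    calc s * (w * w') = s * w * s⁻¹ * (s * (s * w * s⁻¹) * s⁻¹) * s := by rw [hw'def]; group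
      _ = s * w * s⁻¹ * (s * s * w * (s * s)⁻¹) * s := by group
      _ = w' * w * s := by rw [hssw.eq, mul_inv_cancel_right, ← hw'def]
      _ = _ := by rw [hw'C.eq]
  have hscs := conj_eq_or_inv hc4 ((self_rule h (even_four hc4) s).2 hsv)
  obtain ⟨r'', hr''def⟩ : ∃ r'', r'' = s * s * r * (s * s)⁻¹ := ⟨_, rfl⟩
  have hr''mem : r'' ∈ zpowers r := by
    rw [hr''def]; exact (self_rule h (even_four hr) (s * s)).2 (hwdef ▸ hssw)
  have hscs_eq : s * c * s⁻¹ = r' * r'' := by rw [hcdef, hr''def, hr'def]; group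
  have hr''eq : r'' = r := by
    rcases conj_eq_or_inv hr (hr''def ▸ hr''mem) with e | e <;> rw [← hr''def] at e
    · exact e
    exfalso
    rcases hscs with e' | e' <;> rw [hscs_eq, e, hcdef] at e'
    · rw [hcomm.symm.inv_right.eq] at e'
      exact ne_inv_of_sq (hsq ▸ ne_one_of_two hw2) (mul_right_cancel e')
    · rw [mul_inv_rev] at e'
      have e2 : r' = r'⁻¹ := mul_right_cancel e'
      exact ne_inv_of_sq (hsq' ▸ ne_one_of_two (by rw [hw'def, orderOf_conj]; exact hw2)) e2.symm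
  obtain ⟨y, hydef⟩ : ∃ y, y = r⁻¹ * r' := ⟨_, rfl⟩
  have hyy : y * y ≠ 1 := by
    rw [hydef, hcomm.inv_left.symm.mul_mul_mul_comm, ← mul_inv_rev, hsq, hsq', inv_of_two hw2, ← hcc]
    exact hvne
  have hsy : s * y * s⁻¹ = y⁻¹ := by
    have e : s * r' * s⁻¹ = r := by rw [← hr''eq, hr''def, hr'def]; group
    rw [hydef, mul_inv_rev, inv_inv]
    calc s * (r⁻¹ * r') * s⁻¹ = (s * r * s⁻¹)⁻¹ * (s * r' * s⁻¹) := by group
      _ = r'⁻¹ * r := by rw [← hr'def, e]
  have hssr : Commute (s * s) r := mul_inv_eq_iff_eq_mul.1 (hr''def.symm.trans hr''eq)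
  by_cases hs1 : s * s = 1
  · -- the product with `r` has order eight
    have hsinv : s⁻¹ = s := inv_eq_of_mul_eq_one_right hs1
    obtain ⟨b, hbdef⟩ : ∃ b, b = r * s := ⟨_, rfl⟩
    have hbb : b * b = c := by
      rw [hbdef, hcdef, hr'def, hsinv]; group
    have hcb : c ∈ zpowers b := hbb ▸ mul_mem (mem_zpowers b) (mem_zpowers b)
    have hbe : Even (orderOf b) :=
      even_iff_two_dvd.2 ((show 2 ∣ 4 by decide).trans (hc4 ▸ orderOf_dvd_of_mem_zpowers hcb))
    have hrb : Commute r (root b) := by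
      rw [← root_eq_of_mem hcb (even_four hc4)]
      exact commute_of_mem (root_mem c) (hcdef ▸ (Commute.refl r).mul_right hcomm)
    have h1 := (self_rule h hbe r).2 hrb
    have h2 : y⁻¹ ∈ zpowers b := by
      have := mul_mem h1 (inv_mem (mem_zpowers b))
      convert this using 1
      rw [hydef, mul_inv_rev, inv_inv]
      calc r'⁻¹ * r = r * r'⁻¹ := hcomm.inv_right.eq.symm
        _ = r * (r * r'⁻¹ * r⁻¹) := congrArg (r * ·) hcomm.inv_right.mul_inv_cancel.symm
        _ = r * b * r⁻¹ * b⁻¹ := by rw [hbdef, hr'def, hsinv]; group; simp [hsinv]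
    have h3 : Commute b y := commute_of_mem (by simpa using inv_mem h2) (Commute.refl b)
    have h4' : b * y * b⁻¹ = y⁻¹ := by
      rw [hbdef, show r * s * y * (r * s)⁻¹ = r * (s * y * s⁻¹) * r⁻¹ by group, hsy, hydef,
        mul_inv_rev, inv_inv]
      calc r * (r'⁻¹ * r) * r⁻¹ = r * r'⁻¹ := by group
        _ = r'⁻¹ * r := hcomm.inv_right.eq
    rw [h3.eq, mul_inv_cancel_right] at h4'
    exact ne_inv_of_sq hyy h4'.symm
  · -- the involution of `s` commutes with `r`
    obtain ⟨n, hn⟩ := two_pow_eq_one hP hsP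
    obtain ⟨m, hm⟩ := two_pow_eq_one hP (mul_mem hsP hsP)
    have hse : Even (orderOf s) := even_of_two_elt hn (fun e => hs1 (by rw [e, mul_one]))
    have hrz : Commute r (root s) := by
      rw [← root_eq_of_mem (mul_mem (mem_zpowers s) (mem_zpowers s)) (even_of_two_elt hm hs1)]
      exact commute_of_mem (root_mem (s * s)) hssr.symm
    have h1 := (self_rule h hse r).2 hrz
    have h2 : y ∈ zpowers s := by
      have := inv_mem (mul_mem h1 (inv_mem (mem_zpowers s)))
      convert this using 1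
      rw [hydef, hcomm.inv_left.eq, hr'def]
      group
    have h3 : Commute s y := commute_of_mem h2 (Commute.refl s)
    rw [h3.eq, mul_inv_cancel_right] at hsy
    exact ne_inv_of_sq hyy hsy.symm

theorem self_conj_mem {P : Subgroup G} (hP : IsPGroup 2 P) {x : G} (hx : x ∈ P) (h4 : 4 ∣ orderOf x) {p : G}
    (hp : p ∈ P) : p * x * p⁻¹ ∈ zpowers x :=
  (self_rule h (even_iff_two_dvd.2 (dvd_trans (by decide) h4)) p).2 (root_central h hP hx h4 p hp)

end Cfsg.Lib.CyclicNorm
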